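import Groth.Agent.L21.Extend.Gen
import Groth.Agent.L21.Extend.Semilocal

/-!
Gluing an invertible module from a cocycle of units on an open cover.
-/

set_option autoImplicit false
set_option linter.style.haveILetI false
universe u

open CategoryTheory AlgebraicGeometry TopologicalSpace Opposite

noncomputable section

namespace Groth.L22.PicGlue

open Groth.L21.Extend

variable {X : Scheme.{u}}

theorem rO_mul {V V' : X.Opens} (h : V ≤ V') (a b : Γ(X, V')) :
    rO X h (a * b) = rO X h a * rO X h b := map_mul _ _ _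

theorem rO_add {V V' : X.Opens} (h : V ≤ V') (a b : Γ(X, V')) :
    rO X h (a + b) = rO X h a + rO X h b := map_add _ _ _

theorem rO_one {V V' : X.Opens} (h : V ≤ V') : rO X h 1 = 1 := map_one _

theorem rO_zero {V V' : X.Opens} (h : V ≤ V') : rO X h 0 = 0 := map_zero _

theorem rO_self {V : X.Opens} (h : V ≤ V) (a : Γ(X, V)) : rO X h a = a :=
  rs_self (Coh.structureModule X) a

/-- Transition functions on an open cover. -/
structure Cocycle (X : Scheme.{u}) where
  ι : Type u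
  N : ι → X.Opens
  g : ∀ i j, Γ(X, N i ⊓ N j)
  one : ∀ i, g i i = 1
  comp : ∀ i j k, rO X (inf_le_left : N i ⊓ N j ⊓ N k ≤ _) (g i j) *
      rO X (inf_le_inf_right (N k) inf_le_right : N i ⊓ N j ⊓ N k ≤ N j ⊓ N k) (g j k) =
    rO X (inf_le_inf_right (N k) inf_le_left : N i ⊓ N j ⊓ N k ≤ N i ⊓ N k) (g i k)

variable (C : Cocycle X)

theorem le₁ (V : X.Opens) (i j : C.ι) : V ⊓ (C.N i ⊓ C.N j) ≤ V ⊓ C.N i :=
  inf_le_inf_left V inf_le_left

theorem le₂ (V : X.Opens) (i j : C.ι) : V ⊓ (C.N i ⊓ C.N j) ≤ V ⊓ C.N j :=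
  inf_le_inf_left V inf_le_right

/-- Functions on the pieces as a module over functions on the open. -/
instance piModule (V : X.Opens) : Module Γ(X, V) (∀ i, Γ(X, V ⊓ C.N i)) :=
  Module.compHom _ (RingHom.pi fun i =>
    (X.presheaf.map (homOfLE (inf_le_left : V ⊓ C.N i ≤ V)).op).hom)

theorem piModule_apply (V : X.Opens) (r : Γ(X, V)) (a : ∀ i, Γ(X, V ⊓ C.N i)) (i : C.ι) :
    (r • a) i = rO X inf_le_left r * a i := rfl

/-- The sections of the glued module. -/
def sect (V : X.Opens) : Submodule Γ(X, V) (∀ i, Γ(X, V ⊓ C.N i)) where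
  carrier := {a | ∀ i j, rO X (le₁ C V i j) (a i) = rO X inf_le_right (C.g i j) * rO X (le₂ C V i j) (a j)}
  zero_mem' := fun i j => by simp [rO_zero]
  add_mem' {a b} ha hb i j := by
    show rO X _ (a i + b i) = _ * rO X _ (a j + b j)
    rw [rO_add, rO_add, ha i j, hb i j, mul_add]
  smul_mem' r a ha i j := by
    rw [piModule_apply, piModule_apply, rO_mul, rO_mul, ha i j, rO_rO, rO_rO]
    ring

/-- Restriction of tuples. -/
def resTuple {V V' : X.Opens} (h : V' ≤ V) : sect C V →+ sect C V' where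
  toFun a := ⟨fun i => rO X (inf_le_inf_right _ h) (a.1 i), fun i j => by
    have := congrArg (rO X (inf_le_inf_right _ h : V' ⊓ (C.N i ⊓ C.N j) ≤ V ⊓ (C.N i ⊓ C.N j))) (a.2 i j)
    simpa only [rO_mul, rO_rO] using this⟩
  map_zero' := Subtype.ext (funext fun i => map_zero _)
  map_add' a b := Subtype.ext (funext fun i => map_add _ _ _)

/-- The glued presheaf of abelian groups. -/
def abPresheaf : (Opens X)ᵒᵖ ⥤ Ab.{u} where
  obj V := AddCommGrpCat.of (sect C V.unop)
  map {V V'} f := AddCommGrpCat.ofHom (resTuple C f.unop.le)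
  map_id V := AddCommGrpCat.ext fun a => Subtype.ext (funext fun i => by
    show rO X _ (a.1 i) = a.1 i
    exact rO_self _ _)
  map_comp {V V' V''} f g := AddCommGrpCat.ext fun a => Subtype.ext (funext fun i => by
    show rO X _ (a.1 i) = rO X _ (rO X _ (a.1 i))
    rw [rO_rO])

instance (V : (Opens X)ᵒᵖ) : Module (X.ringCatSheaf.obj.obj V) ((abPresheaf C).obj V) :=
  inferInstanceAs (Module Γ(X, V.unop) (sect C V.unop))

/-- The glued presheaf of modules. -/
def modPresheaf : PresheafOfModules.{u} X.ringCatSheaf.obj :=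
  PresheafOfModules.ofPresheaf (abPresheaf C) fun {V V'} f r a => Subtype.ext (funext fun i => by
    show rO X _ (rO X inf_le_left (r : Γ(X, V.unop)) * a.1 i) =
      rO X inf_le_left (rO X f.unop.le (r : Γ(X, V.unop))) * rO X _ (a.1 i)
    rw [rO_mul, rO_rO, rO_rO])

theorem glue_pieces {κ : Type u} (W : κ → X.Opens) (i : C.ι) (s : ∀ k, Γ(X, W k ⊓ C.N i))
    (hs : ∀ k l, rO X (inf_le_inf_right (C.N i) (inf_le_left : W k ⊓ W l ≤ W k)) (s k) =
      rO X (inf_le_inf_right (C.N i) (inf_le_right : W k ⊓ W l ≤ W l)) (s l)) :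
    ∃ t : Γ(X, iSup W ⊓ C.N i), ∀ k, rO X (inf_le_inf_right _ (le_iSup W k)) t = s k := by
  refine exists_glue (Coh.structureModule X) (fun k => W k ⊓ C.N i) _
    (fun k => inf_le_inf_right _ (le_iSup W k)) (fun y hy => ?_) s fun k l => ?_
  · obtain ⟨k, hk⟩ := Opens.mem_iSup.1 hy.1
    exact ⟨k, hk, hy.2⟩
  · have h := congrArg (rO X (fun y hy => ⟨⟨hy.1.1, hy.2.1⟩, hy.1.2⟩ :
      (W k ⊓ C.N i) ⊓ (W l ⊓ C.N i) ≤ (W k ⊓ W l) ⊓ C.N i)) (hs k l)
    simp only [rO_rO] at h
    exact h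

theorem eq_on_pieces {κ : Type u} (W : κ → X.Opens) (O : X.Opens) (a b : Γ(X, iSup W ⊓ O))
    (h : ∀ k, rO X (inf_le_inf_right O (le_iSup W k)) a = rO X (inf_le_inf_right O (le_iSup W k)) b) :
    a = b := by
  refine eq_of_locally (Coh.structureModule X) a b fun y hy => ?_
  obtain ⟨k, hk⟩ := Opens.mem_iSup.1 hy.1
  exact ⟨W k ⊓ O, inf_le_inf_right O (le_iSup W k), ⟨hk, hy.2⟩, h k⟩

theorem isSheaf_abPresheaf : TopCat.Presheaf.IsSheaf (X := X.toTopCat) (abPresheaf C) := by
  refine (TopCat.Presheaf.isSheaf_iff_isSheafUniqueGluing _).mpr ?_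
  intro κ W sf hsf
  choose t ht using fun i => glue_pieces C W i (fun k => (sf k).1 i)
    (fun k l => congrFun (congrArg Subtype.val (hsf k l)) i)
  have hmem : t ∈ sect C (iSup W) := by
    intro i j
    refine eq_on_pieces W _ _ _ fun k => ?_
    have h1 := congrArg (rO X (le₁ C (W k) i j)) (ht i k)
    have h2 := congrArg (rO X (le₂ C (W k) i j)) (ht j k)
    simp only [rO_rO] at h1 h2
    simp only [rO_mul, rO_rO]
    rw [h1, h2]
    exact (sf k).2 i j
  refine ⟨⟨t, hmem⟩, fun k => Subtype.ext (funext fun i => ht i k), fun t' ht' => ?_⟩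
  refine Subtype.ext (funext fun i => eq_on_pieces W _ _ _ fun k => ?_)
  rw [ht i k]
  exact congrFun (congrArg Subtype.val (ht' k)) i

/-- The glued module. -/
def glueMod : X.Modules := ⟨modPresheaf C, isSheaf_abPresheaf C⟩

/-- The tuple of a section. -/
def coords {V : X.Opens} (a : Γ(glueMod C, V)) : ∀ i, Γ(X, V ⊓ C.N i) := a.1

theorem coords_ext {V : X.Opens} {a b : Γ(glueMod C, V)} (h : coords C a = coords C b) : a = b :=
  Subtype.ext h

theorem coords_rs {V V' : X.Opens} (h : V' ≤ V) (a : Γ(glueMod C, V)) (i : C.ι) :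
    coords C (rs (glueMod C) h a) i = rO X (inf_le_inf_right _ h) (coords C a i) := rfl

theorem coords_smul {V : X.Opens} (r : Γ(X, V)) (a : Γ(glueMod C, V)) (i : C.ι) :
    coords C (r • a) i = rO X inf_le_left r * coords C a i := rfl

theorem coords_cond {V : X.Opens} (a : Γ(glueMod C, V)) (i j : C.ι) :
    rO X (le₁ C V i j) (coords C a i) =
      rO X inf_le_right (C.g i j) * rO X (le₂ C V i j) (coords C a j) := a.2 i j

theorem gen_mem (k : C.ι) :
    (fun i => rO X (le_inf inf_le_right inf_le_left : C.N k ⊓ C.N i ≤ C.N i ⊓ C.N k) (C.g i k)) ∈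
      sect C (C.N k) := by
  intro i j
  have := congrArg (rO X (fun y hy => ⟨⟨hy.2.1, hy.2.2⟩, hy.1⟩ :
    C.N k ⊓ (C.N i ⊓ C.N j) ≤ C.N i ⊓ C.N j ⊓ C.N k)) (C.comp i j k)
  simp only [rO_mul, rO_rO] at this ⊢
  exact this.symm

/-- The generator on a member of the cover. -/
def gen (k : C.ι) : Γ(glueMod C, C.N k) := ⟨_, gen_mem C k⟩

theorem coords_gen (k i : C.ι) : coords C (gen C k) i =
    rO X (le_inf inf_le_right inf_le_left : C.N k ⊓ C.N i ≤ C.N i ⊓ C.N k) (C.g i k) := rfl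

/-- The coordinate at the member containing the open. -/
def coef {V : X.Opens} (k : C.ι) (h : V ≤ C.N k) (a : Γ(glueMod C, V)) : Γ(X, V) :=
  rO X (le_inf le_rfl h : V ≤ V ⊓ C.N k) (coords C a k)

theorem coef_rs {V V' : X.Opens} (k : C.ι) (h : V ≤ C.N k) (h' : V' ≤ V) (a : Γ(glueMod C, V)) :
    coef C k (h'.trans h) (rs (glueMod C) h' a) = rO X h' (coef C k h a) := by
  simp only [coef, coords_rs, rO_rO]

theorem smul_gen_eq {V : X.Opens} (k : C.ι) (h : V ≤ C.N k) (a : Γ(glueMod C, V)) :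
    coef C k h a • rs (glueMod C) h (gen C k) = a := by
  refine coords_ext C (funext fun i => ?_)
  rw [coords_smul, coords_rs, coords_gen, coef]
  have := congrArg (rO X (le_inf inf_le_left (le_inf inf_le_right (inf_le_left.trans h)) :
    V ⊓ C.N i ≤ V ⊓ (C.N i ⊓ C.N k))) (coords_cond C a i k)
  simp only [rO_mul, rO_rO] at this ⊢
  rw [mul_comm]
  refine this.symm.trans ?_
  exact rO_self _ _

theorem coef_smul_gen {V : X.Opens} (k : C.ι) (h : V ≤ C.N k) (r : Γ(X, V)) :
    coef C k h (r • rs (glueMod C) h (gen C k)) = r := by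
  rw [coef, coords_smul, coords_rs, coords_gen, C.one]
  simp only [rO_one, mul_one, rO_rO]
  exact rO_self _ _

theorem isGen_gen (k : C.ι) : IsGen (glueMod C) (C.N k) (gen C k) := fun V h =>
  ⟨fun r r' hr => by
    rw [← coef_smul_gen C k h r, ← coef_smul_gen C k h r']
    exact congrArg (coef C k h) hr,
   fun a => ⟨_, smul_gen_eq C k h a⟩⟩

theorem gen_trans (i j : C.ι) :
    rs (glueMod C) (inf_le_right : C.N i ⊓ C.N j ≤ C.N j) (gen C j) =
      C.g i j • rs (glueMod C) (inf_le_left : C.N i ⊓ C.N j ≤ C.N i) (gen C i) := by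
  conv_lhs => rw [← smul_gen_eq C i inf_le_left (rs (glueMod C) inf_le_right (gen C j))]
  congr 1
  rw [coef, coords_rs, coords_gen]
  simp only [rO_rO]
  exact rO_self _ _

theorem isInvertible_glueMod (hcov : ∀ x : X, ∃ i, x ∈ C.N i) : PicF.IsInvertible (glueMod C) := fun x => by
  obtain ⟨i, hi⟩ := hcov x
  exact ⟨C.N i, hi, exists_iso_of_isGen (glueMod C) (isGen_gen C i)⟩

/-- Sections with prescribed coordinates. -/
theorem exists_section {V : X.Opens} (c : ∀ i, Γ(X, V ⊓ C.N i))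
    (hc : ∀ i j, rO X (le₁ C V i j) (c i) = rO X inf_le_right (C.g i j) * rO X (le₂ C V i j) (c j)) :
    ∃ a : Γ(glueMod C, V), coords C a = c := ⟨⟨c, hc⟩, rfl⟩

end Groth.L22.PicGlue
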