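import Groth.Agent.L22.PicGlue.Extension

/-!
Modules with generators having the same transition functions are isomorphic.
-/

set_option autoImplicit false
universe u

open CategoryTheory AlgebraicGeometry TopologicalSpace Opposite

noncomputable section

namespace Groth.L22.PicGlue

open Groth.L21.Extend

variable {X : Scheme.{u}} {ι : Type u} (N : ι → X.Opens)

section

variable (M M' : X.Modules) (e : ∀ i, Γ(M, N i)) (e' : ∀ i, Γ(M', N i))

/-- Same coefficients on every member of the cover. -/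
def SameCoeff {V : X.Opens} (s : Γ(M, V)) (t : Γ(M', V)) : Prop :=
  ∀ (i : ι) (W : X.Opens) (hV : W ≤ V) (hi : W ≤ N i) (c : Γ(X, W)),
    c • rs M hi (e i) = rs M hV s → c • rs M' hi (e' i) = rs M' hV t

/-- Same transition functions. -/
def SameTrans : Prop :=
  ∀ (i j : ι) (W : X.Opens) (hi : W ≤ N i) (hj : W ≤ N j) (c : Γ(X, W)),
    c • rs M hi (e i) = rs M hj (e j) → c • rs M' hi (e' i) = rs M' hj (e' j)

variable {M M' e e'} (he : ∀ i, IsGen M (N i) (e i)) (hcov : ∀ x : X, ∃ i, x ∈ N i)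

include he hcov in
theorem sameCoeff_unique {V : X.Opens} {s : Γ(M, V)} {t t' : Γ(M', V)}
    (h : SameCoeff N M M' e e' s t) (h' : SameCoeff N M M' e e' s t') : t = t' := by
  refine eq_of_locally M' _ _ fun y hy => ?_
  obtain ⟨i, hi⟩ := hcov y
  obtain ⟨c, hc⟩ := (he i (V ⊓ N i) inf_le_right).2 (rs M inf_le_left s)
  exact ⟨V ⊓ N i, inf_le_left, ⟨hy, hi⟩, (h i _ inf_le_left inf_le_right c hc).symm.trans
    (h' i _ inf_le_left inf_le_right c hc)⟩

include he hcov in
theorem exists_sameCoeff (htr : SameTrans N M M' e e') {V : X.Opens} (s : Γ(M, V)) :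
    ∃ t : Γ(M', V), SameCoeff N M M' e e' s t := by
  have key : ∀ (i j : ι) (W : X.Opens) (hV : W ≤ V) (hi : W ≤ N i) (hj : W ≤ N j) (ci cj : Γ(X, W)),
      ci • rs M hi (e i) = rs M hV s → cj • rs M hj (e j) = rs M hV s →
        ci • rs M' hi (e' i) = cj • rs M' hj (e' j) := by
    intro i j W hV hi hj ci cj h1 h2
    obtain ⟨u, hu⟩ := (he i W hi).2 (rs M hj (e j))
    rw [← htr i j W hi hj u hu, smul_smul]
    congr 1
    refine (he i W hi).1 ?_
    show ci • rs M hi (e i) = (cj * u) • rs M hi (e i)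
    rw [mul_smul, show u • rs M hi (e i) = rs M hj (e j) from hu, h1, h2]
  choose c hc using fun i => (he i (V ⊓ N i) inf_le_right).2 (rs M inf_le_left s)
  obtain ⟨t, ht⟩ := exists_glue M' (fun i => V ⊓ N i) V (fun i => inf_le_left)
    (fun y hy => (hcov y).imp fun i hi => ⟨hy, hi⟩) (fun i => c i • rs M' inf_le_right (e' i))
    (fun i j => by
      simp only [rs_smul, rs_rs]
      refine key i j _ (inf_le_left.trans inf_le_left) _ _ _ _ ?_ ?_
      · have := congrArg (rs M (inf_le_left : (V ⊓ N i) ⊓ (V ⊓ N j) ≤ V ⊓ N i)) (hc i)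
        simp only [rs_smul, rs_rs] at this
        exact this
      · have := congrArg (rs M (inf_le_right : (V ⊓ N i) ⊓ (V ⊓ N j) ≤ V ⊓ N j)) (hc j)
        simp only [rs_smul, rs_rs] at this
        exact this)
  refine ⟨t, fun i W hV hi ci hci => ?_⟩
  have h1 := congrArg (rs M' (le_inf hV hi : W ≤ V ⊓ N i)) (ht i)
  simp only [rs_smul, rs_rs] at h1
  rw [h1]
  refine key i i W hV hi hi ci _ hci ?_
  have := congrArg (rs M (le_inf hV hi : W ≤ V ⊓ N i)) (hc i)
  simp only [rs_smul, rs_rs] at this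
  exact this

end

variable {M M' : X.Modules} {e : ∀ i, Γ(M, N i)} {e' : ∀ i, Γ(M', N i)}

/-- The comparison morphism. -/
theorem exists_hom_of_gens (he : ∀ i, IsGen M (N i) (e i)) (hcov : ∀ x : X, ∃ i, x ∈ N i)
    (htr : SameTrans N M M' e e') :
    ∃ φ : M ⟶ M', ∀ (V : X.Opens) (s : Γ(M, V)), SameCoeff N M M' e e' s (φ.app V s) := by
  choose F hF using fun (V : X.Opens) (s : Γ(M, V)) => exists_sameCoeff N he hcov htr s
  have hadd : ∀ V (s s' : Γ(M, V)), F V (s + s') = F V s + F V s' := fun V s s' =>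
    sameCoeff_unique N he hcov (hF V (s + s')) fun i W hV hi c hc => by
      obtain ⟨a, ha⟩ := (he i W hi).2 (rs M hV s)
      obtain ⟨b, hb⟩ := (he i W hi).2 (rs M hV s')
      have hab : c = a + b := (he i W hi).1 (by
        show c • _ = (a + b) • _
        rw [add_smul, hc, show a • rs M hi (e i) = _ from ha, show b • rs M hi (e i) = _ from hb]
        exact map_add _ _ _)
      rw [hab, add_smul, hF V s i W hV hi a ha, hF V s' i W hV hi b hb]
      exact (map_add _ _ _).symm
  have hsmul : ∀ V (r : Γ(X, V)) (s : Γ(M, V)), F V (r • s) = r • F V s := fun V r s =>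
    sameCoeff_unique N he hcov (hF V (r • s)) fun i W hV hi c hc => by
      obtain ⟨a, ha⟩ := (he i W hi).2 (rs M hV s)
      have hab : c = rO X hV r * a := (he i W hi).1 (by
        show c • _ = (rO X hV r * a) • _
        rw [mul_smul, show a • rs M hi (e i) = _ from ha, hc, rs_smul])
      rw [hab, mul_smul, hF V s i W hV hi a ha, rs_smul]
  have hrs : ∀ V V' (h : V' ≤ V) (s : Γ(M, V)), F V' (rs M h s) = rs M' h (F V s) := fun V V' h s =>
    sameCoeff_unique N he hcov (hF V' (rs M h s)) fun i W hV hi c hc => by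
      rw [rs_rs]
      exact hF V s i W (hV.trans h) hi c (hc.trans (rs_rs M hV h s))
  exact ⟨⟨PresheafOfModules.homMk
    { app := fun V => AddCommGrpCat.ofHom (AddMonoidHom.mk' (F V.unop) (hadd V.unop))
      naturality := fun V V' f => AddCommGrpCat.ext fun s => hrs _ _ f.unop.le s }
    (fun V r s => hsmul V.unop r s)⟩, hF⟩

/-- Modules with generators having the same transition functions are isomorphic. -/
theorem nonempty_iso_of_gens (he : ∀ i, IsGen M (N i) (e i)) (he' : ∀ i, IsGen M' (N i) (e' i))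
    (hcov : ∀ x : X, ∃ i, x ∈ N i) (htr : SameTrans N M M' e e') : Nonempty (M ≅ M') := by
  have htr' : SameTrans N M' M e' e := fun i j W hi hj c hc => by
    obtain ⟨a, ha⟩ := (he i W hi).2 (rs M hj (e j))
    have : c = a := (he' i W hi).1 (hc.trans (htr i j W hi hj a ha).symm)
    rw [this]
    exact ha
  obtain ⟨φ, hφ⟩ := exists_hom_of_gens N he hcov htr
  obtain ⟨ψ, hψ⟩ := exists_hom_of_gens N he' hcov htr'
  refine ⟨⟨φ, ψ, ?_, ?_⟩⟩
  · refine Scheme.Modules.hom_ext _ _ fun V => ConcreteCategory.hom_ext _ _ fun s => ?_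
    show ψ.app V (φ.app V s) = s
    refine sameCoeff_unique N he' hcov (hψ V _) fun i W hV hi c hc => ?_
    obtain ⟨a, ha⟩ := (he i W hi).2 (rs M hV s)
    have : c = a := (he' i W hi).1 (hc.trans (hφ V s i W hV hi a ha).symm)
    rw [this]
    exact ha
  · refine Scheme.Modules.hom_ext _ _ fun V => ConcreteCategory.hom_ext _ _ fun t => ?_
    show φ.app V (ψ.app V t) = t
    refine sameCoeff_unique N he hcov (hφ V _) fun i W hV hi c hc => ?_
    obtain ⟨a, ha⟩ := (he' i W hi).2 (rs M' hV t)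
    have : c = a := (he i W hi).1 (hc.trans (hψ V t i W hV hi a ha).symm)
    rw [this]
    exact ha

end Groth.L22.PicGlue
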