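import Groth.Agent.L22.PicGlue.Points
import Groth.Agent.L22.PicGlue.GensIso
import Groth.Agent.L18.Frame
import Mathlib.AlgebraicGeometry.Noetherian
import Mathlib.Topology.NoetherianSpace
import Mathlib.RingTheory.Spectrum.Prime.Topology

/-!
Invertible modules on finite covers of Noetherian schemes of dimension at most one.
-/

set_option autoImplicit false
set_option linter.style.haveILetI false
universe u

open CategoryTheory AlgebraicGeometry TopologicalSpace Opposite

noncomputable section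

namespace Groth.L22.PicGlue

open Groth.L21.Extend Groth.L22.FinAff

variable {X Y : Scheme.{u}}

theorem ringKrullDim_stalk_le (y : Y) :
    ringKrullDim (Y.presheaf.stalk y) ≤ topologicalKrullDim Y := by
  rw [← PrimeSpectrum.topologicalKrullDim_eq_ringKrullDim]
  exact (Y.fromSpecStalk y).isEmbedding.isInducing.topologicalKrullDim_le

theorem isClosed_singleton_of_not_isGen [IsLocallyNoetherian Y] (hdim : topologicalKrullDim Y ≤ 1)
    {y : Y} (hy : ¬ IsGen y) : IsClosed ({y} : Set Y) := by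
  refine isClosed_of_closure_subset fun w hw => ?_
  by_contra hne
  obtain ⟨η, hη, hηy⟩ := exists_isGen_specializes y
  have hyw : y ⤳ w := specializes_iff_mem_closure.2 hw
  have h := (generizations_of_dim_le_one w ((ringKrullDim_stalk_le w).trans hdim)).2
  have hηw : η ≠ w := fun he => hy (by
    have h' : y ⤳ η := he ▸ hyw
    exact (h'.antisymm hηy).eq ▸ hη)
  exact hy ((h η y (hηy.trans hyw) hηw hyw (fun he => hne he.symm) hηy) ▸ hη)

/-- On a Noetherian scheme of dimension at most one the complement of an open containing all generic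
points is a finite discrete set of closed points. -/
theorem finite_compl [IsNoetherian Y] (hdim : topologicalKrullDim Y ≤ 1) (U : Y.Opens)
    (hU : ∀ η : Y, IsGen η → η ∈ U) :
    ((U : Set Y)ᶜ).Finite ∧ ∀ y ∉ U, IsClosed ({y} : Set Y) := by
  have hclosed : ∀ y ∉ U, IsClosed ({y} : Set Y) := fun y hy =>
    isClosed_singleton_of_not_isGen hdim fun h => hy (hU y h)
  refine ⟨?_, hclosed⟩
  obtain ⟨S, hS, hSfin, hSirr, -, hSU⟩ :
      ∃ S : Set (Set Y), (U : Set Y)ᶜ = ⋃₀ S ∧ S.Finite ∧ (∀ Z ∈ S, IsIrreducible Z) ∧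
        (∀ Z ∈ S, IsClosed Z) ∧ ∀ Z ∈ S, Z ⊆ (U : Set Y)ᶜ := by
    obtain ⟨S, hSfin, hc, hi, he⟩ :=
      TopologicalSpace.NoetherianSpace.exists_finite_set_isClosed_irreducible (α := Y) U.isOpen.isClosed_compl
    exact ⟨S, he, hSfin, hi, hc, fun Z hZ => he ▸ Set.subset_sUnion_of_mem hZ⟩
  rw [hS]
  refine hSfin.sUnion fun Z hZ => ?_
  have hZc : IsClosed (closure Z) := isClosed_closure
  obtain ⟨g, hg⟩ : ∃ g, IsGenericPoint g (closure Z) := QuasiSober.sober (hSirr Z hZ).closure hZc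
  have hgU : g ∉ U := fun hgm => by
    have : g ∈ closure Z := hg.mem
    exact closure_minimal (hSU Z hZ) U.isOpen.isClosed_compl this hgm
  refine (Set.finite_singleton g).subset fun z hz => ?_
  have : z ∈ closure ({g} : Set Y) := hg.def ▸ subset_closure hz
  rwa [(hclosed g hgU).closure_eq] at this

/-- Generators of a module on pairwise disjoint opens give one on their union. -/
theorem exists_isGen_disjoint (L : X.Modules) {ι : Type u} (O : ι → X.Opens)
    (hd : ∀ i j, i ≠ j → Disjoint (O i : Set X) (O j)) (h : ∀ i, ∃ e, Groth.L21.Extend.IsGen L (O i) e) :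
    ∃ e : Γ(L, iSup O), Groth.L21.Extend.IsGen L (iSup O) e := by
  choose e he using h
  obtain ⟨t, ht⟩ := exists_glue L O (iSup O) (le_iSup O) (fun y hy => Opens.mem_iSup.1 hy) e
    fun i j => by
      by_cases hij : i = j
      · subst hij; rfl
      · exact (subsingleton_bot L (V := O i ⊓ O j) fun y hy => Set.disjoint_left.1 (hd i j hij) hy.1 hy.2).elim _ _
  refine ⟨t, isGen_of_locally fun y hy => ?_⟩
  obtain ⟨i, hi⟩ := Opens.mem_iSup.1 hy
  exact ⟨O i, le_iSup O i, hi, (ht i).symm ▸ he i⟩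

theorem closure_isGen_inj {η η' : Y}
    (h : closure ({η} : Set Y) = closure ({η'} : Set Y)) : η = η' :=
  (show IsGenericPoint η (closure {η'}) from h).eq (show IsGenericPoint η' (closure {η'}) from rfl)

/-- A dense open with trivial preimage. -/
theorem exists_open_trivial (f : X ⟶ Y) [IsFinite f] [IsNoetherian Y] (L : X.Modules)
    (hL : PicF.IsInvertible L) (V : Y.Opens) (hV : Dense (V : Set Y)) :
    ∃ (U : Y.Opens) (e : Γ(L, f ⁻¹ᵁ U)), U ≤ V ∧ (∀ η : Y, IsGen η → η ∈ U) ∧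
      Groth.L21.Extend.IsGen L (f ⁻¹ᵁ U) e := by
  classical
  have hfin : (irreducibleComponents (Y : Type u)).Finite :=
    TopologicalSpace.NoetherianSpace.finite_irreducibleComponents
  let G := {η : Y // IsGen η}
  have hG : ∀ η : G, ∃ W : Y.Opens, η.1 ∈ W ∧ W ≤ V ∧
      (∀ y ∈ W, ∀ η' : G, η'.1 ⤳ y → η' = η) ∧ ∃ e, Groth.L21.Extend.IsGen L (f ⁻¹ᵁ W) e := by
    intro η
    obtain ⟨V₁, hη₁, ⟨φ⟩⟩ := exists_trivial_preimage f L hL η.1
    obtain ⟨e, he⟩ := exists_gen_of_iso L φ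
    set B : Set Y := ⋃ Z ∈ irreducibleComponents (Y : Type u) \ {closure {η.1}}, Z
    have hB : IsClosed B := (hfin.subset Set.sdiff_subset).isClosed_biUnion fun Z hZ =>
      isClosed_of_mem_irreducibleComponents Z hZ.1
    have hηB : η.1 ∉ B := by
      intro h
      obtain ⟨Z, hZ, hηZ⟩ := Set.mem_iUnion₂.1 h
      have hle : closure {η.1} ⊆ Z :=
        closure_minimal (Set.singleton_subset_iff.2 hηZ) (isClosed_of_mem_irreducibleComponents Z hZ.1)
      exact hZ.2 (subset_antisymm ((closure_mem_of_isGen η.2).2 hZ.1.1 hle) hle)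
    have hηV : η.1 ∈ V := by
      obtain ⟨w, hwO, hwV⟩ := hV.inter_open_nonempty _ hB.isOpen_compl ⟨η.1, hηB⟩
      obtain ⟨η', hη', hη'w⟩ := exists_isGen_specializes w
      have hη'B : η' ∉ B := fun h => hwO (hη'w.mem_closed hB h)
      have : η' = η.1 := by
        by_contra hne
        exact hη'B (Set.mem_iUnion₂.2 ⟨_, ⟨closure_mem_of_isGen hη',
          fun h => hne (closure_isGen_inj h)⟩, subset_closure rfl⟩)
      exact this ▸ hη'w.mem_open V.isOpen hwV
    refine ⟨V ⊓ V₁ ⊓ ⟨Bᶜ, hB.isOpen_compl⟩, ⟨⟨hηV, hη₁⟩, hηB⟩, inf_le_left.trans inf_le_left,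
      fun y hy η' hη' => ?_, _, he.restrict L (f.preimage_mono (inf_le_left.trans inf_le_right))⟩
    by_contra hne
    exact hy.2 (Set.mem_iUnion₂.2 ⟨closure {η'.1}, ⟨closure_mem_of_isGen η'.2,
      fun h => hne (Subtype.ext (closure_isGen_inj h))⟩, specializes_iff_mem_closure.1 hη'⟩)
  choose W hηW hWV hWd hWe using hG
  obtain ⟨e, he⟩ := exists_isGen_disjoint L (fun η : G => f ⁻¹ᵁ W η) (fun η η' hne => by
    refine Set.disjoint_left.2 fun x hx hx' => hne ?_
    obtain ⟨g, hg, hgy⟩ := exists_isGen_specializes (f x)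
    exact (hWd η (f x) hx ⟨g, hg⟩ hgy).symm.trans (hWd η' (f x) hx' ⟨g, hg⟩ hgy)) hWe
  have hpre : f ⁻¹ᵁ iSup W = ⨆ η, f ⁻¹ᵁ W η := Scheme.Hom.preimage_iSup f W
  exact ⟨iSup W, rs L hpre.le e, iSup_le hWV, fun η hη => le_iSup W ⟨η, hη⟩ (hηW _),
    he.restrict L hpre.le⟩

/-- Lifting a unit along a closed immersion over an affine open, invertible at finitely many points. -/
theorem exists_lift_unit (f : X ⟶ Y) (D : Y.Opens) (hD : IsAffineOpen D) [IsClosedImmersion (f ∣_ D)]
    (u : Γ(X, f ⁻¹ᵁ D)) (hu : IsUnit u) (T : Set Y) (hT : T.Finite) (hTD : T ⊆ D) :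
    ∃ v : Γ(Y, D), f.app D v = u ∧ T ⊆ Y.basicOpen v := by
  haveI : IsAffine (D : Scheme) := hD
  have htop : (f ⁻¹ᵁ D).ι ''ᵁ ⊤ = f ⁻¹ᵁ D := (f ⁻¹ᵁ D).ι_image_top
  let b : Γ((f ⁻¹ᵁ D).toScheme, ⊤) := X.presheaf.map (homOfLE htop.le).op u
  have hb : IsUnit b := hu.map (X.presheaf.map (homOfLE htop.le).op).hom
  obtain ⟨a, ha, haT⟩ := exists_lift_basicOpen (f ∣_ D) b (D.ι ⁻¹' T)
    (hT.preimage D.ι.isOpenEmbedding.injective.injOn) (fun c _ => by
      rw [Scheme.basicOpen_of_isUnit _ hb]; trivial)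
  have hDtop : D.ι ''ᵁ ⊤ = D := D.ι_image_top
  refine ⟨Y.presheaf.map (homOfLE hDtop.ge).op a, ?_, fun t ht => ?_⟩
  · rw [Scheme.Hom.appTop, morphismRestrict_app'] at ha
    have h1 : f.app D (Y.presheaf.map (homOfLE hDtop.ge).op a) = rO X htop.ge
        (f.appLE (D.ι ''ᵁ ⊤) _ (image_morphismRestrict_preimage f D ⊤).le a) := by
      show (Y.presheaf.map (homOfLE hDtop.ge).op ≫ f.app D) a =
        (f.appLE _ _ (image_morphismRestrict_preimage f D ⊤).le ≫ X.presheaf.map (homOfLE htop.ge).op) a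
      rw [Scheme.Hom.appLE_map, Scheme.Hom.app_eq_appLE, Scheme.Hom.map_appLE]
    rw [h1]
    exact (congrArg (rO X htop.ge) ha).trans ((rO_rO htop.ge htop.le u).trans (rO_self _ u))
  · have h : D.ι ⟨t, hTD ht⟩ ∈ D.ι ''ᵁ (D : Scheme).basicOpen a := ⟨⟨t, hTD ht⟩, haT ht, rfl⟩
    rw [Scheme.image_basicOpen] at h
    rw [Scheme.basicOpen_res]
    refine ⟨hTD ht, ?_⟩
    have h' : t ∈ Y.basicOpen ((D.ι.appIso ⊤).inv a) := h
    rwa [Scheme.Opens.ι_appIso] at h'

theorem isClosedImmersion_restrict_le (f : X ⟶ Y) {V D : Y.Opens} (h : IsClosedImmersion (f ∣_ V))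
    (hD : D ≤ V) : IsClosedImmersion (f ∣_ D) := by
  have h1 : IsClosedImmersion ((f ∣_ V) ∣_ (V.ι ⁻¹ᵁ D)) := IsZariskiLocalAtTarget.restrict h _
  have he : V.ι ''ᵁ (V.ι ⁻¹ᵁ D) = D := by
    rw [Scheme.Hom.image_preimage_eq_opensRange_inf, Scheme.Opens.opensRange_ι, inf_eq_right]
    exact hD
  rw [← he]
  exact (MorphismProperty.arrow_mk_iso_iff @IsClosedImmersion (morphismRestrictRestrict f V _)).1 h1

/-- The canonical generator of the pushforward of the structure sheaf. -/
theorem exists_gen_pushforward (U : Y.Opens) :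
    ∃ m : Γ((Scheme.Modules.pushforward U.ι).obj (Coh.structureModule (↑U : Scheme.{u})), U),
      Groth.L21.Extend.IsGen _ U m := by
  refine ⟨(1 : Γ((↑U : Scheme.{u}), U.ι ⁻¹ᵁ U)), fun W hW => ?_⟩
  have hb : Function.Bijective (U.ι.app W) := by
    haveI : IsIso (U.ι.app W) := U.ι.isIso_app W (by rwa [Scheme.Opens.opensRange_ι])
    exact ConcreteCategory.bijective_of_isIso _
  have key : ∀ a : Γ(Y, W), (show Γ((↑U : Scheme.{u}), U.ι ⁻¹ᵁ W) from
      a • rs ((Scheme.Modules.pushforward U.ι).obj (Coh.structureModule (↑U : Scheme.{u}))) hW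
        (1 : Γ((↑U : Scheme.{u}), U.ι ⁻¹ᵁ U))) = U.ι.app W a := fun a => by
    show U.ι.app W a * rO (↑U : Scheme.{u}) (U.ι.preimage_mono hW)
      (1 : Γ((↑U : Scheme.{u}), U.ι ⁻¹ᵁ U)) = U.ι.app W a
    erw [rO_one, mul_one]
  exact ⟨fun a b h => hb.1 ((key a).symm.trans (h.trans (key b))),
    fun t => (hb.2 t).imp fun a ha => (key a).trans ha⟩

/-- The extension has a generator on the open, compared with the ones near the closed set. -/
theorem exists_gen_extension {U : X.Opens} {M : X.Modules} (hgen : GenOn M U) (D : ExtInput U M)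
    (hs : SupportedOn M U) {m : Γ(M, U)} (hm : Groth.L21.Extend.IsGen M U m) (v : ∀ k, Γ(X, D.N k ⊓ U))
    (hv : ∀ k, D.e k = v k • rs M inf_le_right m) :
    ∃ m' : Γ(extension hgen D, U), Groth.L21.Extend.IsGen (extension hgen D) U m' ∧
      ∀ k, rs (extension hgen D) inf_le_left (extGen hgen D k) =
        v k • rs (extension hgen D) (inf_le_right : D.N k ⊓ U ≤ U) m' := by
  obtain ⟨m', hm'⟩ := (bijective_comp_app hgen D hs (le_refl U)).2 m
  refine ⟨m', fun W hW => ?_, fun k => ?_⟩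
  · have hb := bijective_comp_app hgen D hs hW
    have key : ∀ a : Γ(X, W), (comp hgen D hs).app W (a • rs _ hW m') = a • rs M hW m := fun a => by
      rw [Scheme.Modules.Hom.app_smul, rs_app, hm']
    exact ⟨fun a b h => (hm W hW).1 ((key a).symm.trans
        ((congrArg ((comp hgen D hs).app W) h).trans (key b))),
      fun t => by
        obtain ⟨a, ha⟩ := (hm W hW).2 ((comp hgen D hs).app W t)
        exact ⟨a, hb.1 ((key a).trans ha)⟩⟩
  · refine (bijective_comp_app hgen D hs inf_le_right).1 ?_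
    rw [comp_extGen, Scheme.Modules.Hom.app_smul, rs_app, hm', hv]

theorem rs_eq_smul {M : X.Modules} {U V W : X.Opens} {a : Γ(M, U)} {b : Γ(M, V)} {c : Γ(X, U ⊓ V)}
    (h : rs M inf_le_left a = c • rs M inf_le_right b) (hU : W ≤ U) (hV : W ≤ V) :
    rs M hU a = rO X (le_inf hU hV) c • rs M hV b := by
  have := congrArg (rs M (le_inf hU hV)) h
  simp only [rs_smul, rs_rs] at this
  exact this

/-- Same transition functions for generators related to a common one. -/
theorem sameTrans_star {κ : Type u} (N : Option κ → X.Opens) {M M' : X.Modules}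
    {e : ∀ o, Γ(M, N o)} {e' : ∀ o, Γ(M', N o)} (u : ∀ k, Γ(X, N (some k) ⊓ N none))
    (h0 : Groth.L21.Extend.IsGen M (N none) (e none))
    (hu : ∀ k, rs M inf_le_left (e (some k)) = u k • rs M inf_le_right (e none))
    (hu' : ∀ k, rs M' inf_le_left (e' (some k)) = u k • rs M' inf_le_right (e' none))
    (hd : ∀ k l, k ≠ l → N (some k) ⊓ N (some l) ≤ N none)
    (he : ∀ o, Groth.L21.Extend.IsGen M (N o) (e o)) : SameTrans N M M' e e' := by
  intro i j W hi hj c hc
  rcases i with - | k <;> rcases j with - | l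
  · have : c = 1 := (h0 W hi).1 (by simpa using hc)
    rw [this, one_smul]
  · rw [rs_eq_smul (hu l) hj hi] at hc
    rw [rs_eq_smul (hu' l) hj hi, (h0 W hi).1 hc]
  · have h1 : c * rO X (le_inf hi hj) (u k) = 1 := (h0 W hj).1 (by
      show (c * _) • _ = (1 : Γ(X, W)) • _
      rw [mul_smul, one_smul, ← rs_eq_smul (hu k) hi hj]
      exact hc)
    rw [rs_eq_smul (hu' k) hi hj, smul_smul, h1, one_smul]
  · by_cases hkl : k = l
    · subst hkl
      have : c = 1 := (he (some k) W hi).1 (by simpa using hc)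
      rw [this, one_smul]
    · have h0W : W ≤ N none := (le_inf hi hj).trans (hd k l hkl)
      rw [rs_eq_smul (hu k) hi h0W, rs_eq_smul (hu l) hj h0W, smul_smul] at hc
      rw [rs_eq_smul (hu' k) hi h0W, rs_eq_smul (hu' l) hj h0W, smul_smul, (h0 W h0W).1 hc]

/-- The main statement: invertible modules descend along finite birational maps to curves. -/
theorem exists_invertible_pullback (f : X ⟶ Y) [IsFinite f] [IsNoetherian Y]
    (hdim : topologicalKrullDim Y ≤ 1) (V : Y.Opens) (hV : Dense (V : Set Y))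
    (hfV : IsClosedImmersion (f ∣_ V)) (L : X.Modules) (hL : PicF.IsInvertible L) :
    ∃ N : Y.Modules, PicF.IsInvertible N ∧ Nonempty ((Scheme.Modules.pullback f).obj N ≅ L) := by
  classical
  obtain ⟨U, e₀, hUV, hUgen, he₀⟩ := exists_open_trivial f L hL V hV
  obtain ⟨hfin, hclosed⟩ := finite_compl hdim U hUgen
  haveI hqc : QuasiCompact U.ι := inferInstance
  -- data at the points outside `U`
  have hdata : ∀ z : {y : Y // y ∉ U}, ∃ (W : Y.Opens) (v : Γ(Y, W ⊓ U)) (e₁ : Γ(L, f ⁻¹ᵁ W)),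
      z.1 ∈ W ∧ (∀ y ∈ W, y ∉ U → y = z.1) ∧ IsUnit v ∧ Groth.L21.Extend.IsGen L (f ⁻¹ᵁ W) e₁ ∧
      rs L (f.preimage_mono inf_le_left) e₁ =
        (show Γ(X, f ⁻¹ᵁ (W ⊓ U)) from f.app (W ⊓ U) v) • rs L (f.preimage_mono inf_le_right) e₀ := by
    intro z
    obtain ⟨V₁, hz₁, ⟨φ⟩⟩ := exists_trivial_preimage f L hL z.1
    obtain ⟨e₁, he₁⟩ := exists_gen_of_iso L φ
    have hOc : IsClosed ((U : Set Y)ᶜ \ {z.1}) := by
      have h : IsClosed (⋃ y ∈ ((U : Set Y)ᶜ \ {z.1}), ({y} : Set Y)) :=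
        (hfin.subset Set.sdiff_subset).isClosed_biUnion fun y hy => hclosed y hy.1
      rwa [Set.biUnion_of_singleton] at h
    let O : Y.Opens := ⟨((U : Set Y)ᶜ \ {z.1})ᶜ, hOc.isOpen_compl⟩
    have hzO : z.1 ∈ O ⊓ V₁ := ⟨fun h => h.2 rfl, hz₁⟩
    have hO : ∀ y ∈ O ⊓ V₁, y ∉ U → y = z.1 := fun y hy hyU => by
      by_contra hne
      exact hy.1 ⟨hyU, hne⟩
    obtain ⟨W, g, hW, hzW, hWO, hg⟩ := exists_puncture U z.1 z.2 (O ⊓ V₁) hzO hO
      ((ringKrullDim_stalk_le z.1).trans hdim)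
    have hD : IsAffineOpen (W ⊓ U) := hg ▸ hW.basicOpen g
    haveI : IsClosedImmersion (f ∣_ (W ⊓ U)) := isClosedImmersion_restrict_le f hfV (inf_le_right.trans hUV)
    obtain ⟨u, hu'⟩ := (he₀ (f ⁻¹ᵁ (W ⊓ U)) (f.preimage_mono inf_le_right)).2
      (rs L (f.preimage_mono (inf_le_left.trans (hWO.trans inf_le_right))) e₁)
    have hu : IsUnit u := by
      have h1 := he₁.restrict L (f.preimage_mono (inf_le_left.trans (hWO.trans inf_le_right)) :
        f ⁻¹ᵁ (W ⊓ U) ≤ f ⁻¹ᵁ V₁)
      rw [← show u • rs L _ e₀ = _ from hu'] at h1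
      exact Groth.L18.Frame.isUnit_of_isFrame (he₀.restrict L (f.preimage_mono inf_le_right)) h1
    obtain ⟨hTfin, -⟩ := generizations_of_dim_le_one z.1 ((ringKrullDim_stalk_le z.1).trans hdim)
    have hTD : {y : Y | y ⤳ z.1 ∧ y ≠ z.1} ⊆ (W ⊓ U : Y.Opens) := fun y hy => by
      refine ⟨hy.1.mem_open W.isOpen hzW, ?_⟩
      by_contra h
      exact hy.2 (hO y (hWO (hy.1.mem_open W.isOpen hzW)) h)
    obtain ⟨v, hv, hvT⟩ := exists_lift_unit f (W ⊓ U) hD u hu _ hTfin hTD
    obtain ⟨M₁, hzM₁, hM₁W, hM₁⟩ := exists_nhd_basicOpen_le hW g (Y.basicOpen v) hzW fun y hy hyg =>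
      hvT ⟨hy, fun he => z.2 (he ▸ (hg.le hyg).2)⟩
    have hle : M₁ ⊓ U ≤ Y.basicOpen v := fun y hy => hM₁ ⟨hy.1, hg.ge ⟨hM₁W hy.1, hy.2⟩⟩
    have hle' : M₁ ⊓ U ≤ W ⊓ U := inf_le_inf_right _ hM₁W
    refine ⟨M₁, Y.presheaf.map (homOfLE hle').op v,
      rs L (f.preimage_mono (hM₁W.trans (hWO.trans inf_le_right))) e₁, hzM₁,
      fun y hy hyU => hO y (hWO (hM₁W hy)) hyU, ?_, he₁.restrict L _, ?_⟩
    · have := (RingedSpace.isUnit_res_basicOpen _ v).map (Y.presheaf.map (homOfLE hle).op).hom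
      convert this using 1
      exact (rO_rO hle (Y.basicOpen_le v) v).symm
    · have hnat : (show Γ(X, f ⁻¹ᵁ (M₁ ⊓ U)) from f.app (M₁ ⊓ U) (Y.presheaf.map (homOfLE hle').op v)) =
          rO X (f.preimage_mono hle') (f.app (W ⊓ U) v) :=
        congr($(f.naturality (homOfLE hle').op) v)
      rw [hnat, hv]
      have := congrArg (rs L (f.preimage_mono hle')) hu'
      simp only [rs_smul, rs_rs] at this ⊢
      exact this.symm
  choose W v e₁ hzW hW hv he₁ hev using hdata
  let M : Y.Modules := (Scheme.Modules.pushforward U.ι).obj (Coh.structureModule (↑U : Scheme.{u}))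
  have hs : SupportedOn M U := supportedOn_pushforward (le_refl U) _
  have hgen : GenOn M U := genOn_pushforward (O := U) _ (isInvertible_structureModule _)
  obtain ⟨m, hm⟩ := exists_gen_pushforward U
  let D : ExtInput U M :=
    { κ := {y : Y // y ∉ U}
      N := W
      e := fun z => v z • rs M inf_le_right m
      isGen := fun z => Groth.L21.Extend.IsGen.smul_unit (hm.restrict M inf_le_right) (hv z)
      inter := fun z w hzw y hy => by
        by_contra hn
        exact hzw (Subtype.ext ((hW z y hy.1 hn).symm.trans (hW w y hy.2 hn)))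
      cover := fun x hx => ⟨⟨x, hx⟩, hzW _⟩ }
  refine ⟨extension hgen D, isInvertible_extension hgen D, ?_⟩
  obtain ⟨m', hm', hext⟩ := exists_gen_extension hgen D hs hm v (fun z => rfl)
  -- compare through generators
  let NN : Option {y : Y // y ∉ U} → X.Opens := fun o => f ⁻¹ᵁ (o.elim U W)
  let eP : ∀ o, Γ((Scheme.Modules.pullback f).obj (extension hgen D), NN o) := fun o => match o with
    | none => Groth.L18.Frame.pull f (extension hgen D) U m'
    | some z => Groth.L18.Frame.pull f (extension hgen D) (W z) (extGen hgen D z)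
  let eL : ∀ o, Γ(L, NN o) := fun o => match o with
    | none => e₀
    | some z => e₁ z
  refine nonempty_iso_of_gens NN (e := eP) (e' := eL) (fun o => match o with
    | none => Groth.L18.Frame.IsFrame.pullback f _ hm'
    | some z => Groth.L18.Frame.IsFrame.pullback f _ (isGen_extGen hgen D z))
    (fun o => match o with
    | none => he₀
    | some z => he₁ z) (fun x => by
      by_cases h : f x ∈ U
      · exact ⟨none, h⟩
      · exact ⟨some ⟨f x, h⟩, hzW ⟨f x, h⟩⟩) ?_
  refine sameTrans_star NN (fun z => (show Γ(X, f ⁻¹ᵁ (W z ⊓ U)) from f.app (W z ⊓ U) (v z)))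
    (Groth.L18.Frame.IsFrame.pullback f _ hm') (fun z => ?_) hev
    (fun z w hzw => (f.preimage_mono (D.inter z w hzw)))
    (fun o => match o with
    | none => Groth.L18.Frame.IsFrame.pullback f _ hm'
    | some z => Groth.L18.Frame.IsFrame.pullback f _ (isGen_extGen hgen D z))
  show rs ((Scheme.Modules.pullback f).obj (extension hgen D))
      (f.preimage_mono (inf_le_left : W z ⊓ U ≤ W z))
      (Groth.L18.Frame.pull f (extension hgen D) (W z) (extGen hgen D z)) =
    (show Γ(X, f ⁻¹ᵁ (W z ⊓ U)) from f.app (W z ⊓ U) (v z)) •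
      rs ((Scheme.Modules.pullback f).obj (extension hgen D))
        (f.preimage_mono (inf_le_right : W z ⊓ U ≤ U)) (Groth.L18.Frame.pull f (extension hgen D) U m')
  refine (Groth.L18.Frame.pull_rs f _ inf_le_left _).trans ?_
  refine (congrArg (Groth.L18.Frame.pull f (extension hgen D) (W z ⊓ U)) (hext z)).trans ?_
  refine (Groth.L18.Frame.pull_smul f _ _ _).trans ?_
  exact congrArg (_ • ·) (Groth.L18.Frame.pull_rs f _ inf_le_right m').symm

end Groth.L22.PicGlue
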