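import Groth.Agent.L22.PicGlue.Cocycle
import Groth.Agent.L21.Extend.Split

/-!
Extending an invertible module across a closed set covered by opens on which a generator off that
set is given.
-/

set_option autoImplicit false
set_option linter.style.haveILetI false
universe u

open CategoryTheory AlgebraicGeometry TopologicalSpace Opposite

noncomputable section

namespace Groth.L22.PicGlue

open Groth.L21.Extend

variable {X : Scheme.{u}}

/-- Input data: a module generated on `U`, and generators near the complement. -/
structure ExtInput (U : X.Opens) (M : X.Modules) where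
  κ : Type u
  N : κ → X.Opens
  e : ∀ k, Γ(M, N k ⊓ U)
  isGen : ∀ k, IsGen M (N k ⊓ U) (e k)
  inter : ∀ k l, k ≠ l → N k ⊓ N l ≤ U
  cover : ∀ x, x ∉ U → ∃ k, x ∈ N k

variable {U : X.Opens} {M : X.Modules} (hgen : GenOn M U) (D : ExtInput U M)

/-- All members of the cover. -/
def allN : U ⊕ D.κ → X.Opens
  | Sum.inl y => (hgen y.1 y.2).choose
  | Sum.inr k => D.N k

theorem allN_le (y : U) : allN hgen D (Sum.inl y) ≤ U := (hgen y.1 y.2).choose_spec.choose_spec.choose

theorem mem_allN (y : U) : y.1 ∈ allN hgen D (Sum.inl y) := (hgen y.1 y.2).choose_spec.choose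

/-- Their generators off the closed set. -/
def allE : ∀ i, Γ(M, allN hgen D i ⊓ U)
  | Sum.inl y => rs M inf_le_left (hgen y.1 y.2).choose_spec.choose_spec.choose_spec.choose
  | Sum.inr k => D.e k

theorem isGen_allE : ∀ i, IsGen M (allN hgen D i ⊓ U) (allE hgen D i)
  | Sum.inl y => ((hgen y.1 y.2).choose_spec.choose_spec.choose_spec.choose_spec).restrict M _
  | Sum.inr k => D.isGen k

theorem inter_le (i j : U ⊕ D.κ) (h : i ≠ j) : allN hgen D i ⊓ allN hgen D j ≤ U := by
  rcases i with y | k
  · exact inf_le_left.trans (allN_le hgen D y)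
  rcases j with y | l
  · exact inf_le_right.trans (allN_le hgen D y)
  · exact D.inter k l fun he => h (he ▸ rfl)

open Classical in
/-- The transition function. -/
def trans (i j : U ⊕ D.κ) : Γ(X, allN hgen D i ⊓ allN hgen D j) :=
  if h : allN hgen D i ⊓ allN hgen D j ≤ U then
    ((isGen_allE hgen D i _ (le_inf inf_le_left h)).2
      (rs M (le_inf inf_le_right h : _ ≤ allN hgen D j ⊓ U) (allE hgen D j))).choose
  else 1

theorem trans_smul (i j : U ⊕ D.κ) {W : X.Opens} (hi : W ≤ allN hgen D i) (hj : W ≤ allN hgen D j)
    (hU : W ≤ U) :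
    rO X (le_inf hi hj) (trans hgen D i j) • rs M (le_inf hi hU) (allE hgen D i) =
      rs M (le_inf hj hU) (allE hgen D j) := by
  by_cases h : allN hgen D i ⊓ allN hgen D j ≤ U
  · have := congrArg (rs M (le_inf hi hj : W ≤ allN hgen D i ⊓ allN hgen D j))
      ((isGen_allE hgen D i _ (le_inf inf_le_left h)).2
        (rs M (le_inf inf_le_right h : _ ≤ allN hgen D j ⊓ U) (allE hgen D j))).choose_spec
    simp only [rs_smul, rs_rs] at this
    rw [trans, dif_pos h]
    exact this
  · obtain rfl : i = j := by
      by_contra hne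
      exact h (inter_le hgen D i j hne)
    rw [trans, dif_neg h, rO_one, one_smul]

theorem coeff_inj (i : U ⊕ D.κ) {W : X.Opens} (hi : W ≤ allN hgen D i) (hU : W ≤ U) {a b : Γ(X, W)}
    (h : a • rs M (le_inf hi hU) (allE hgen D i) = b • rs M (le_inf hi hU) (allE hgen D i)) : a = b :=
  (isGen_allE hgen D i W (le_inf hi hU)).1 h

theorem trans_self (i : U ⊕ D.κ) : trans hgen D i i = 1 := by
  by_cases h : allN hgen D i ⊓ allN hgen D i ≤ U
  · refine coeff_inj hgen D i inf_le_left h ?_
    rw [one_smul]
    have := trans_smul hgen D i i (W := allN hgen D i ⊓ allN hgen D i) inf_le_left inf_le_right h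
    rwa [rO_self] at this
  · rw [trans, dif_neg h]

/-- The cocycle of the extension. -/
@[reducible] def cocycle : Cocycle X where
  ι := U ⊕ D.κ
  N := allN hgen D
  g := trans hgen D
  one := trans_self hgen D
  comp i j k := by
    by_cases hij : i = j
    · subst hij
      rw [trans_self, rO_one, one_mul]
    by_cases hjk : j = k
    · subst hjk
      rw [trans_self, rO_one, mul_one]
    set W := allN hgen D i ⊓ allN hgen D j ⊓ allN hgen D k
    have hi : W ≤ allN hgen D i := inf_le_left.trans inf_le_left
    have hj : W ≤ allN hgen D j := inf_le_left.trans inf_le_right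
    have hk : W ≤ allN hgen D k := inf_le_right
    have hU : W ≤ U := inf_le_left.trans (inter_le hgen D i j hij)
    refine coeff_inj hgen D i hi hU ?_
    have h1 := trans_smul hgen D i j hi hj hU
    have h2 := trans_smul hgen D j k hj hk hU
    have h3 := trans_smul hgen D i k hi hk hU
    rw [← h1, smul_smul] at h2
    rw [mul_comm]
    exact h2.trans h3.symm

theorem cover_all (x : X) : ∃ i, x ∈ allN hgen D i := by
  by_cases hx : x ∈ U
  · exact ⟨Sum.inl ⟨x, hx⟩, mem_allN hgen D ⟨x, hx⟩⟩
  · obtain ⟨k, hk⟩ := D.cover x hx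
    exact ⟨Sum.inr k, hk⟩

/-- The extension. -/
@[reducible] def extension : X.Modules := glueMod (cocycle hgen D)

theorem isInvertible_extension : PicF.IsInvertible (extension hgen D) :=
  isInvertible_glueMod _ (cover_all hgen D)

/-- The generator of the extension near the closed set. -/
def extGen (k : D.κ) : Γ(extension hgen D, D.N k) := gen (cocycle hgen D) (Sum.inr k)

theorem isGen_extGen (k : D.κ) : IsGen (extension hgen D) (D.N k) (extGen hgen D k) :=
  isGen_gen (cocycle hgen D) (Sum.inr k)

variable (hs : SupportedOn M U)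

/-- The relation between a section of the extension and a section of the module. -/
def Matches {V : X.Opens} (a : Γ(extension hgen D, V)) (t : Γ(M, V)) : Prop :=
  ∀ (i : U ⊕ D.κ) (W : X.Opens) (hV : W ≤ V) (hi : W ≤ allN hgen D i) (hU : W ≤ U),
    rs M hV t = rO X (le_inf hV hi) (coords (cocycle hgen D) a i) • rs M (le_inf hi hU) (allE hgen D i)

include hs in
theorem matches_unique {V : X.Opens} {a : Γ(extension hgen D, V)} {t t' : Γ(M, V)}
    (h : Matches hgen D a t) (h' : Matches hgen D a t') : t = t' := by
  refine (hs V).1 (eq_of_locally M _ _ fun y hy => ?_)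
  let W := V ⊓ U ⊓ allN hgen D (Sum.inl ⟨y, hy.2⟩)
  refine ⟨W, inf_le_left, ⟨hy, mem_allN hgen D ⟨y, hy.2⟩⟩, ?_⟩
  rw [rs_rs, rs_rs, h _ W (inf_le_left.trans inf_le_left) inf_le_right (inf_le_left.trans inf_le_right),
    h' _ W (inf_le_left.trans inf_le_left) inf_le_right (inf_le_left.trans inf_le_right)]

include hs in
theorem exists_matches {V : X.Opens} (a : Γ(extension hgen D, V)) :
    ∃ t : Γ(M, V), Matches hgen D a t := by
  let W : U ⊕ D.κ → X.Opens := fun i => V ⊓ U ⊓ allN hgen D i
  have hWV : ∀ i, W i ≤ V := fun i => inf_le_left.trans inf_le_left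
  have hWU : ∀ i, W i ≤ U := fun i => inf_le_left.trans inf_le_right
  have hWN : ∀ i, W i ≤ allN hgen D i := fun i => inf_le_right
  have key : ∀ (i j : U ⊕ D.κ) (O : X.Opens) (hV : O ≤ V) (hU : O ≤ U) (hi : O ≤ allN hgen D i)
      (hj : O ≤ allN hgen D j),
      rO X (le_inf hV hi) (coords (cocycle hgen D) a i) • rs M (le_inf hi hU) (allE hgen D i) =
      rO X (le_inf hV hj) (coords (cocycle hgen D) a j) • rs M (le_inf hj hU) (allE hgen D j) := by
    intro i j O hV hU hi hj
    have := congrArg (rO X (le_inf hV (le_inf hi hj) : O ≤ V ⊓ (allN hgen D i ⊓ allN hgen D j)))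
      (coords_cond (cocycle hgen D) a i j)
    rw [rO_mul, rO_rO, rO_rO, rO_rO] at this
    rw [← trans_smul hgen D i j hi hj hU, smul_smul, this, mul_comm]
  obtain ⟨t₀, ht₀⟩ := exists_glue M W (V ⊓ U) (fun i => inf_le_left)
    (fun y hy => ⟨Sum.inl ⟨y, hy.2⟩, hy, mem_allN hgen D ⟨y, hy.2⟩⟩)
    (fun i => rO X (le_inf (hWV i) (hWN i)) (coords (cocycle hgen D) a i) •
      rs M (le_inf (hWN i) (hWU i)) (allE hgen D i))
    (fun i j => by
      simp only [rs_smul, rs_rs, rO_rO]
      exact key i j (W i ⊓ W j) (inf_le_left.trans (hWV i)) (inf_le_left.trans (hWU i))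
        (inf_le_left.trans (hWN i)) (inf_le_right.trans (hWN j)))
  obtain ⟨t, rfl⟩ := (hs V).2 t₀
  refine ⟨t, fun i O hV hi hU => ?_⟩
  have := congrArg (rs M (le_inf (le_inf hV hU) hi : O ≤ W i)) (ht₀ i)
  simp only [rs_smul, rs_rs, rO_rO] at this
  exact this

/-- The comparison on sections. -/
def compFun (V : X.Opens) (a : Γ(extension hgen D, V)) : Γ(M, V) := (exists_matches hgen D hs a).choose

theorem compFun_spec {V : X.Opens} (a : Γ(extension hgen D, V)) :
    Matches hgen D a (compFun hgen D hs V a) := (exists_matches hgen D hs a).choose_spec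

theorem compFun_eq {V : X.Opens} {a : Γ(extension hgen D, V)} {t : Γ(M, V)} (h : Matches hgen D a t) :
    compFun hgen D hs V a = t := matches_unique hgen D hs (compFun_spec hgen D hs a) h

theorem compFun_add (V : X.Opens) (a b : Γ(extension hgen D, V)) :
    compFun hgen D hs V (a + b) = compFun hgen D hs V a + compFun hgen D hs V b :=
  compFun_eq hgen D hs fun i W hV hi hU => by
    show M.presheaf.map _ (_ + _) = _
    rw [map_add]
    show rs M hV _ + rs M hV _ = _
    rw [compFun_spec hgen D hs a i W hV hi hU, compFun_spec hgen D hs b i W hV hi hU, ← add_smul,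
      ← rO_add]
    rfl

theorem compFun_smul (V : X.Opens) (r : Γ(X, V)) (a : Γ(extension hgen D, V)) :
    compFun hgen D hs V (r • a) = r • compFun hgen D hs V a :=
  compFun_eq hgen D hs fun i W hV hi hU => by
    rw [rs_smul, compFun_spec hgen D hs a i W hV hi hU, smul_smul]
    congr 1
    show _ = rO X _ (coords (cocycle hgen D) (r • a) i)
    rw [coords_smul, rO_mul, rO_rO]

theorem compFun_rs {V V' : X.Opens} (h : V' ≤ V) (a : Γ(extension hgen D, V)) :
    compFun hgen D hs V' (rs (extension hgen D) h a) = rs M h (compFun hgen D hs V a) :=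
  compFun_eq hgen D hs fun i W hV hi hU => by
    rw [rs_rs, compFun_spec hgen D hs a i W (hV.trans h) hi hU]
    congr 1
    show _ = rO X _ (coords (cocycle hgen D) (rs (extension hgen D) h a) i)
    erw [coords_rs, rO_rO]

/-- The comparison map. -/
def comp : extension hgen D ⟶ M :=
  ⟨PresheafOfModules.homMk
    { app := fun V => AddCommGrpCat.ofHom
        (AddMonoidHom.mk' (compFun hgen D hs V.unop) (compFun_add hgen D hs V.unop))
      naturality := fun V V' f => AddCommGrpCat.ext fun a => compFun_rs hgen D hs f.unop.le a }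
    (fun V r a => compFun_smul hgen D hs V.unop r a)⟩

theorem comp_app (V : X.Opens) (a : Γ(extension hgen D, V)) :
    (comp hgen D hs).app V a = compFun hgen D hs V a := rfl

theorem bijective_comp_app {V : X.Opens} (hV : V ≤ U) : Function.Bijective ((comp hgen D hs).app V) := by
  constructor
  · intro a b hab
    rw [comp_app, comp_app] at hab
    refine coords_ext (cocycle hgen D) (funext fun i => ?_)
    refine coeff_inj hgen D i (W := V ⊓ allN hgen D i) inf_le_right (inf_le_left.trans hV) ?_
    have h1 := compFun_spec hgen D hs a i _ inf_le_left inf_le_right (inf_le_left.trans hV)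
    have h2 := compFun_spec hgen D hs b i _ inf_le_left inf_le_right (inf_le_left.trans hV)
    rw [hab] at h1
    have h3 := h1.symm.trans h2
    erw [rO_self, rO_self] at h3
    exact h3
  · intro t
    choose c hc using fun i => (isGen_allE hgen D i (V ⊓ allN hgen D i)
      (le_inf inf_le_right (inf_le_left.trans hV))).2 (rs M inf_le_left t)
    obtain ⟨a, ha⟩ := exists_section (cocycle hgen D) c fun i j => by
      set W := V ⊓ (allN hgen D i ⊓ allN hgen D j)
      have hi : W ≤ allN hgen D i := inf_le_right.trans inf_le_left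
      have hj : W ≤ allN hgen D j := inf_le_right.trans inf_le_right
      have hU : W ≤ U := inf_le_left.trans hV
      refine coeff_inj hgen D i hi hU ?_
      have h1 := congrArg (rs M (le₁ (cocycle hgen D) V i j)) (hc i)
      have h2 := congrArg (rs M (le₂ (cocycle hgen D) V i j)) (hc j)
      simp only [rs_smul, rs_rs] at h1 h2
      show rO X _ (c i) • rs M _ (allE hgen D i) =
        (rO X inf_le_right (trans hgen D i j) * rO X _ (c j)) • rs M _ (allE hgen D i)
      rw [mul_comm, mul_smul, trans_smul hgen D i j hi hj hU]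
      exact h1.trans h2.symm
    refine ⟨a, ?_⟩
    rw [comp_app]
    refine compFun_eq hgen D hs fun i W hV' hi hU => ?_
    rw [ha]
    have := congrArg (rs M (le_inf hV' hi : W ≤ V ⊓ allN hgen D i)) (hc i)
    simp only [rs_smul, rs_rs] at this
    exact this.symm

theorem comp_extGen (k : D.κ) :
    (comp hgen D hs).app (D.N k ⊓ U) (rs (extension hgen D) inf_le_left (extGen hgen D k)) = D.e k := by
  rw [comp_app]
  refine compFun_eq hgen D hs fun i W hV hi hU => ?_
  have h := trans_smul hgen D i (Sum.inr k) hi (hV.trans inf_le_left) hU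
  erw [coords_rs, coords_gen, rO_rO, rO_rO]
  exact h.symm

theorem isIso_restrict_comp : IsIso ((Scheme.Modules.restrictFunctor U.ι).map (comp hgen D hs)) := by
  rw [Scheme.Modules.Hom.isIso_iff_isIso_app]
  intro V
  rw [ConcreteCategory.isIso_iff_bijective]
  exact bijective_comp_app hgen D hs (U.ι_image_le V)

include hs in
/-- The extension restricts to the module. -/
theorem nonempty_iso_restrict :
    Nonempty ((extension hgen D).restrict U.ι ≅ M.restrict U.ι) := by
  haveI := isIso_restrict_comp hgen D hs
  exact ⟨asIso ((Scheme.Modules.restrictFunctor U.ι).map (comp hgen D hs))⟩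

include hs in
/-- A global section of the extension from a section on `U` and its coefficients near the closed set. -/
theorem exists_globalSection (m : Γ(M, U)) (c : ∀ k, Γ(X, D.N k))
    (hc : ∀ k, rO X (inf_le_left : D.N k ⊓ U ≤ D.N k) (c k) • D.e k = rs M inf_le_right m) :
    ∃ s : Γ(extension hgen D, ⊤), (∀ k, rs (extension hgen D) le_top s = c k • extGen hgen D k) ∧
      (comp hgen D hs).app U (rs (extension hgen D) le_top s) = m := by
  obtain ⟨a, ha⟩ := (bijective_comp_app hgen D hs (le_refl U)).2 m
  have key : ∀ (k : D.κ) (W : X.Opens) (hk : W ≤ D.N k) (hW : W ≤ U),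
      rs (extension hgen D) hk (c k • extGen hgen D k) = rs (extension hgen D) hW a := fun k W hk hW => by
    refine (bijective_comp_app hgen D hs hW).1 ?_
    rw [rs_app (comp hgen D hs) hW a, ha]
    have := congrArg (rs M (le_inf hk hW : W ≤ D.N k ⊓ U)) (hc k)
    rw [← comp_extGen hgen D hs k, rs_smul, rO_rO, ← rs_app (comp hgen D hs), rs_rs, rs_rs] at this
    rw [rs_smul, Scheme.Modules.Hom.app_smul]
    exact this
  obtain ⟨s, hs'⟩ := exists_glue (extension hgen D) (fun o : Option D.κ => o.elim U D.N) ⊤
    (fun _ => le_top)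
    (fun y _ => by
      by_cases hy : y ∈ U
      · exact ⟨none, hy⟩
      · obtain ⟨k, hk⟩ := D.cover y hy
        exact ⟨some k, hk⟩)
    (fun o => match o with
      | none => a
      | some k => c k • extGen hgen D k)
    (fun o o' => match o, o' with
      | none, none => rfl
      | none, some k => (key k _ inf_le_right inf_le_left).symm
      | some k, none => key k _ inf_le_left inf_le_right
      | some k, some l => by
        by_cases h : k = l
        · subst h; rfl
        · exact (key k _ inf_le_left (D.inter k l h)).trans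
            (key l _ inf_le_right (D.inter k l h)).symm)
  refine ⟨s, fun k => hs' (some k), ?_⟩
  have h0 : rs (extension hgen D) (le_top : U ≤ ⊤) s = a := hs' none
  rw [h0, ha]

end Groth.L22.PicGlue
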