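import Groth.Agent.L22.PicGlue.Extension
import Groth.Agent.L22.FinAff.Images
import Mathlib.RingTheory.Ideal.MinimalPrime.Noetherian
import Mathlib.RingTheory.Localization.AtPrime.Basic

/-!
Punctured neighbourhoods of points with one-dimensional Noetherian local rings on a scheme.
-/

set_option autoImplicit false
set_option linter.style.haveILetI false
universe u

open CategoryTheory AlgebraicGeometry TopologicalSpace Opposite

namespace Groth.L22.PicGlue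

open Groth.L21.Extend Groth.L22.FinAff

variable {X : Scheme.{u}}

/-- In a one-dimensional Noetherian local ring the non-maximal primes are finite and minimal. -/
theorem primes_of_dim_le_one {A : Type u} [CommRing A] [IsLocalRing A] [IsNoetherianRing A]
    (h : ringKrullDim A ≤ 1) :
    {Q : PrimeSpectrum A | Q ≠ IsLocalRing.closedPoint A}.Finite ∧
      ∀ Q Q' : PrimeSpectrum A, Q ≠ IsLocalRing.closedPoint A → Q' ≠ IsLocalRing.closedPoint A →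
        Q ⤳ Q' → Q = Q' := by
  haveI : Ring.KrullDimLE 1 A := (Ring.krullDimLE_iff).2 h
  have hmin : ∀ Q : PrimeSpectrum A, Q ≠ IsLocalRing.closedPoint A → Q.asIdeal ∈ minimalPrimes A := by
    intro Q hQ
    rcases (Ring.krullDimLE_one_iff.1 (inferInstanceAs (Ring.KrullDimLE 1 A))) Q.asIdeal Q.2 with h | h
    · exact h
    · exact absurd (PrimeSpectrum.ext (IsLocalRing.eq_maximalIdeal h)) hQ
  refine ⟨?_, fun Q Q' hQ hQ' hs => ?_⟩
  · refine ((minimalPrimes.finite_of_isNoetherianRing A).preimage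
      (f := fun Q : PrimeSpectrum A => Q.asIdeal) (fun a _ b _ h => PrimeSpectrum.ext h)).subset ?_
    exact fun Q hQ => hmin Q hQ
  · have hle : Q.asIdeal ≤ Q'.asIdeal := (PrimeSpectrum.le_iff_specializes _ _).2 hs
    exact PrimeSpectrum.ext (le_antisymm hle ((hmin Q' hQ').2 ⟨Q.2, bot_le⟩ hle))

/-- The proper generizations of a point with a one-dimensional Noetherian local ring. -/
theorem generizations_of_dim_le_one (x : X) [IsNoetherianRing (X.presheaf.stalk x)]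
    (h : ringKrullDim (X.presheaf.stalk x) ≤ 1) :
    {y : X | y ⤳ x ∧ y ≠ x}.Finite ∧
      ∀ y y' : X, y ⤳ x → y ≠ x → y' ⤳ x → y' ≠ x → y ⤳ y' → y = y' := by
  obtain ⟨hf, hinc⟩ := primes_of_dim_le_one h
  have hlift : ∀ y, y ⤳ x → y ≠ x → ∃ Q : PrimeSpectrum (X.presheaf.stalk x),
      Q ≠ IsLocalRing.closedPoint _ ∧ X.fromSpecStalk x Q = y := fun y hy hne => by
    obtain ⟨Q, hQ⟩ : y ∈ Set.range (X.fromSpecStalk x) := by
      rw [Scheme.range_fromSpecStalk]; exact hy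
    exact ⟨Q, fun he => hne (by rw [← hQ, he]; exact Scheme.fromSpecStalk_closedPoint), hQ⟩
  refine ⟨(hf.image fun Q : PrimeSpectrum (X.presheaf.stalk x) => X.fromSpecStalk x Q).subset
    fun y hy => ?_, fun y y' hy hne hy' hne' hs => ?_⟩
  · obtain ⟨Q, hQ, rfl⟩ := hlift y hy.1 hy.2
    exact ⟨Q, hQ, rfl⟩
  · obtain ⟨Q, hQ, rfl⟩ := hlift y hy hne
    obtain ⟨Q', hQ', rfl⟩ := hlift y' hy' hne'
    have he : Topology.IsInducing (X.fromSpecStalk x) := (X.fromSpecStalk x).isEmbedding.isInducing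
    have hsQ : (Q : Spec (X.presheaf.stalk x)) ⤳ Q' := he.specializes_iff.1 hs
    rw [hinc Q Q' hQ hQ' hsQ]

theorem primeIdealOf_eq_comap {V : X.Opens} (hV : IsAffineOpen V) {x : X} (hx : x ∈ V) (f : Γ(X, V)) :
    f ∈ (hV.primeIdealOf ⟨x, hx⟩).asIdeal ↔ x ∉ X.basicOpen f := by
  rw [← not_iff_not, not_not]
  have h : hV.primeIdealOf ⟨x, hx⟩ ∈ hV.fromSpec ⁻¹ᵁ X.basicOpen f ↔
      hV.primeIdealOf ⟨x, hx⟩ ∈ PrimeSpectrum.basicOpen f := by
    rw [hV.fromSpec_preimage_basicOpen]; rfl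
  have h' : hV.fromSpec (hV.primeIdealOf ⟨x, hx⟩) ∈ X.basicOpen f ↔ f ∉ (hV.primeIdealOf ⟨x, hx⟩).asIdeal := h
  rw [hV.fromSpec_primeIdealOf] at h'
  exact h'.symm

/-- An open affine neighbourhood of an isolated point of the complement, punctured by a function. -/
theorem exists_puncture (U : X.Opens) [QuasiCompact U.ι] (x : X) (hxU : x ∉ U) (O : X.Opens)
    (hxO : x ∈ O) (hO : ∀ y ∈ O, y ∉ U → y = x) [IsNoetherianRing (X.presheaf.stalk x)]
    (h : ringKrullDim (X.presheaf.stalk x) ≤ 1) :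
    ∃ (V : X.Opens) (f : Γ(X, V)), IsAffineOpen V ∧ x ∈ V ∧ V ≤ O ∧ X.basicOpen f = V ⊓ U := by
  classical
  obtain ⟨V₀, hV₀, hxV₀, hV₀O⟩ :=
    TopologicalSpace.Opens.isBasis_iff_nbhd.1 X.isBasis_affineOpens hxO
  obtain ⟨hfin, -⟩ := generizations_of_dim_le_one x h
  have hS : (Subtype.val ⁻¹' {y : X | y ⤳ x ∧ y ≠ x} : Set V₀).Finite :=
    hfin.preimage Subtype.val_injective.injOn
  obtain ⟨f, hf, hfS⟩ := Groth.Agent.S7661.result Γ(X, V₀) (hV₀.primeIdealOf ⟨x, hxV₀⟩).asIdeal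
    (hS.toFinset.image fun y => (hV₀.primeIdealOf y).asIdeal)
    (fun p hp => by
      obtain ⟨y, -, rfl⟩ := Finset.mem_image.1 hp
      exact (hV₀.primeIdealOf y).2)
    (fun p hp hle => by
      obtain ⟨⟨y, hyV⟩, hy, rfl⟩ := Finset.mem_image.1 hp
      have hy' : y ⤳ x ∧ y ≠ x := hS.mem_toFinset.1 hy
      have h2 : hV₀.fromSpec (hV₀.primeIdealOf ⟨x, hxV₀⟩) ⤳ hV₀.fromSpec (hV₀.primeIdealOf ⟨y, hyV⟩) :=
        ((PrimeSpectrum.le_iff_specializes _ _).1 hle).map hV₀.fromSpec.continuous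
      rw [hV₀.fromSpec_primeIdealOf, hV₀.fromSpec_primeIdealOf] at h2
      exact hy'.2 (hy'.1.antisymm h2).eq) 0
  have hxf : x ∉ X.basicOpen f :=
    (primeIdealOf_eq_comap hV₀ hxV₀ f).1 (Ideal.Quotient.eq_zero_iff_mem.1 hf)
  have hyf : ∀ y, y ⤳ x → y ≠ x → y ∈ X.basicOpen f := fun y hy hne => by
    have hyV : y ∈ V₀ := hy.mem_open V₀.isOpen hxV₀
    by_contra hn
    exact hfS _ (Finset.mem_image_of_mem _ ((Set.Finite.mem_toFinset (a := (⟨y, hyV⟩ : V₀)) hS).2 ⟨hy, hne⟩))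
      ((primeIdealOf_eq_comap hV₀ hyV f).2 hn)
  have hgenU : ∀ y, y ⤳ x → y ≠ x → y ∈ U := fun y hy hne => by
    by_contra hn
    exact hne (hO y (hV₀O (hy.mem_open V₀.isOpen hxV₀)) hn)
  obtain ⟨M₁, hxM₁, hM₁V, hM₁⟩ := exists_nhd_basicOpen_le hV₀ f U hxV₀ fun y hy hyf' =>
    hgenU y hy fun he => hxf (he ▸ hyf')
  -- the part of `U` near `x` is quasi-compact
  have hUV : IsCompact ((U ⊓ V₀ : X.Opens) : Set X) := by
    have hc : IsCompact (U.ι ⁻¹' (V₀ : Set X)) :=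
      U.ι.isCompact_preimage (U := V₀) hV₀.isCompact
    convert hc.image U.ι.continuous using 1
    rw [Set.image_preimage_eq_inter_range, Scheme.Opens.range_ι, Set.inter_comm]
    rfl
  have hcov : ((U ⊓ V₀ : X.Opens) : Set X) ⊆
      ⋃ g : {g : Γ(X, V₀) // X.basicOpen g ≤ U}, (X.basicOpen g.1 : Set X) := fun y hy => by
    obtain ⟨g, hg, hyg⟩ := hV₀.exists_basicOpen_le (V := U) ⟨y, hy.1⟩ hy.2
    exact Set.mem_iUnion.2 ⟨⟨g, hg⟩, hyg⟩
  obtain ⟨F, hF⟩ := hUV.elim_finite_subcover (fun g : {g : Γ(X, V₀) // X.basicOpen g ≤ U} => (X.basicOpen g.1 : Set X))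
    (fun g => (X.basicOpen g.1).isOpen) hcov
  have hnb : ∀ g : F, ∃ M : X.Opens, x ∈ M ∧ M ⊓ X.basicOpen g.1.1 ≤ X.basicOpen f := fun g => by
    obtain ⟨M, hxM, -, hM⟩ := exists_nhd_basicOpen_le hV₀ g.1.1 (X.basicOpen f) hxV₀
      fun y hy hyg => hyf y hy fun he => hxU (he ▸ g.1.2 hyg)
    exact ⟨M, hxM, hM⟩
  choose Mg hxMg hMg using hnb
  have hxM : x ∈ (⟨⋂ g, (Mg g : Set X), isOpen_iInter_of_finite fun g => (Mg g).isOpen⟩ : X.Opens) ⊓ M₁ :=
    ⟨Set.mem_iInter.2 hxMg, hxM₁⟩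
  obtain ⟨V, hV, hxV, hVM⟩ :=
    TopologicalSpace.Opens.isBasis_iff_nbhd.1 X.isBasis_affineOpens hxM
  have hVV₀ : V ≤ V₀ := fun y hy => hM₁V (hVM hy).2
  refine ⟨V, X.presheaf.map (homOfLE hVV₀).op f, hV, hxV, hVV₀.trans hV₀O, ?_⟩
  rw [Scheme.basicOpen_res]
  refine le_antisymm (fun y hy => ⟨hy.1, hM₁ ⟨(hVM hy.1).2, hy.2⟩⟩) fun y hy => ⟨hy.1, ?_⟩
  obtain ⟨g, hg, hyg⟩ := Set.mem_iUnion₂.1 (hF ⟨hy.2, hVV₀ hy.1⟩)
  exact hMg ⟨g, hg⟩ ⟨Set.mem_iInter.1 (hVM hy.1).1 ⟨g, hg⟩, hyg⟩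

/-- A generator of a module on a punctured neighbourhood. -/
theorem exists_puncture_gen (U : X.Opens) [QuasiCompact U.ι] (M : X.Modules) (hgen : GenOn M U) (x : X)
    (hxU : x ∉ U) (O : X.Opens) (hxO : x ∈ O) (hO : ∀ y ∈ O, y ∉ U → y = x)
    [IsNoetherianRing (X.presheaf.stalk x)] (h : ringKrullDim (X.presheaf.stalk x) ≤ 1) :
    ∃ (V : X.Opens) (e : Γ(M, V ⊓ U)), x ∈ V ∧ V ≤ O ∧ IsGen M (V ⊓ U) e := by
  obtain ⟨V, f, hV, hxV, hVO, hfU⟩ := exists_puncture U x hxU O hxO hO h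
  obtain ⟨hfin, hinc⟩ := generizations_of_dim_le_one x h
  have hD : IsAffineOpen (X.basicOpen f) := hV.basicOpen f
  let j := hD.fromSpec
  have hjU : ∀ z, j z ∈ U := fun z => by
    have : j z ∈ Set.range j := ⟨z, rfl⟩
    rw [hD.range_fromSpec] at this
    exact (hfU.le this).2
  have hinv : PicF.IsInvertible (M.restrict j) := fun z => by
    obtain ⟨W, hzW, -, e, he⟩ := hgen (j z) (hjU z)
    refine ⟨j ⁻¹ᵁ W, hzW,
      exists_iso_of_isGen _ (e := rs M (Scheme.Hom.image_preimage_le j W) e) fun V' hV' => ?_⟩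
    have h1 : j ''ᵁ V' ≤ W := (j.image_mono hV').trans (Scheme.Hom.image_preimage_le j W)
    have h2 := (he (j ''ᵁ V') h1).comp (ConcreteCategory.bijective_of_isIso (j.appIso V').inv)
    refine ⟨fun a b hab => h2.1 ?_, fun s => (h2.2 s).imp fun a ha => ?_⟩
    · show (j.appIso V').inv a • rs M h1 e = (j.appIso V').inv b • rs M h1 e
      rw [← rs_rs M (j.image_mono hV') (Scheme.Hom.image_preimage_le j W)]
      exact hab
    · show (j.appIso V').inv a • rs M (j.image_mono hV') (rs M (Scheme.Hom.image_preimage_le j W) e) = s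
      rw [rs_rs]
      exact ha
  set S : Set ↥(Spec Γ(X, X.basicOpen f)) := j ⁻¹' {y | y ⤳ x ∧ y ≠ x}
  obtain ⟨G, g, hSG, hg⟩ := exists_isGen_near (M.restrict j) hinv S
    (hfin.preimage j.isOpenEmbedding.injective.injOn) (fun p hp q hq hpq =>
      j.isOpenEmbedding.injective (hinc _ _ hp.1 hp.2 hq.1 hq.2 (hpq.map j.continuous)))
  have hg' := exists_isGen_image j hg
  obtain ⟨M₁, hxM₁, hM₁V, hM₁⟩ := exists_nhd_basicOpen_le hV f (j ''ᵁ G) hxV fun y hy hyf => by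
    have hne : y ≠ x := fun he => hxU (hfU.le (he ▸ hyf)).2
    obtain ⟨z, rfl⟩ : y ∈ Set.range j := by rw [hD.range_fromSpec]; exact hyf
    exact ⟨z, hSG ⟨hy, hne⟩, rfl⟩
  have hle : M₁ ⊓ U ≤ j ''ᵁ G := fun y hy => hM₁ ⟨hy.1, hfU.ge ⟨hM₁V hy.1, hy.2⟩⟩
  exact ⟨M₁, rs M hle g, hxM₁, hM₁V.trans hVO, hg'.restrict M hle⟩

/-- Isolated points of the complement. -/
theorem exists_isolating {U : X.Opens} (hdisc : DiscreteTopology ↥((U : Set X)ᶜ)) (x : X) (hx : x ∉ U) :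
    ∃ O : X.Opens, x ∈ O ∧ ∀ y ∈ O, y ∉ U → y = x := by
  obtain ⟨W, hW, he⟩ := isOpen_induced_iff.1
    (hdisc.eq_bot ▸ trivial : IsOpen ({⟨x, hx⟩} : Set ↥((U : Set X)ᶜ)))
  refine ⟨⟨W, hW⟩, (Set.ext_iff.1 he ⟨x, hx⟩).2 rfl, fun y hy hyU => ?_⟩
  exact congrArg Subtype.val ((Set.ext_iff.1 he ⟨y, hyU⟩).1 hy)

end Groth.L22.PicGlue
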