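import Groth.Agent.L22.PicGlue.GensIso
import Groth.Agent.L18.Frame
import Mathlib.AlgebraicGeometry.Morphisms.ClosedImmersion

/-!
Gluing invertible modules along closed subschemes meeting in discrete sets, on a reduced scheme.
-/

set_option autoImplicit false
set_option linter.style.haveILetI false
universe u

open CategoryTheory AlgebraicGeometry TopologicalSpace Opposite

noncomputable section

namespace Groth.L22.PicGlue

open Groth.L21.Extend

variable {X : Scheme.{u}} {n : ℕ} {Z : Fin n → Scheme.{u}} (j : ∀ i, Z i ⟶ X)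

theorem eq_zero_of_app [IsReduced X] (hcov : ∀ x : X, ∃ i, x ∈ Set.range (j i)) (V : X.Opens)
    (d : Γ(X, V)) (h : ∀ i, (j i).app V d = 0) : d = 0 := by
  rw [← basicOpen_eq_bot_iff, eq_bot_iff]
  intro x hx
  obtain ⟨i, z, rfl⟩ := hcov x
  have : z ∈ j i ⁻¹ᵁ X.basicOpen d := hx
  rw [Scheme.preimage_basicOpen, h i, Scheme.basicOpen_zero] at this
  exact this.elim

theorem bijective_app_of_le_range [IsReduced X] (i : Fin n) [IsClosedImmersion (j i)] (V : X.Opens)
    (hV : (V : Set X) ⊆ Set.range (j i)) : Function.Bijective ((j i).app V) := by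
  haveI : IsClosedImmersion (j i ∣_ V) :=
    IsZariskiLocalAtTarget.restrict (P := @IsClosedImmersion) inferInstance V
  haveI : Surjective (j i ∣_ V) := ⟨fun x => by
    obtain ⟨z, hz⟩ := hV x.2
    refine ⟨⟨z, show j i z ∈ V from hz ▸ x.2⟩, V.ι.isOpenEmbedding.injective ?_⟩
    rw [← Scheme.Hom.comp_apply, morphismRestrict_ι]
    exact hz⟩
  haveI : IsIso (j i ∣_ V) := isIso_of_isClosedImmersion_of_surjective _
  have h1 : IsIso ((j i ∣_ V).appTop) := inferInstanceAs (IsIso (Scheme.Γ.map (j i ∣_ V).op))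
  rw [morphismRestrict_appTop] at h1
  have h2 : IsIso ((j i).app (V.ι ''ᵁ ⊤)) :=
    @IsIso.of_isIso_comp_right _ _ _ _ _ ((j i).app (V.ι ''ᵁ ⊤))
      ((Z i).presheaf.map (eqToHom (image_morphismRestrict_preimage (j i) V ⊤)).op) inferInstance h1
  have he : V.ι ''ᵁ ⊤ = V := V.ι_image_top
  rw [he] at h2
  exact ConcreteCategory.bijective_of_isIso _

theorem smul_rs_eq {Y : Scheme.{u}} {M : Y.Modules} {U V W' W : Y.Opens} (hU : W' ≤ U) (hV : W' ≤ V)
    (h : W ≤ W') {a : Γ(Y, W')} {s : Γ(M, U)} {t : Γ(M, V)} (he : a • rs M hU s = rs M hV t) :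
    rO Y h a • rs M (h.trans hU) s = rs M (h.trans hV) t := by
  have := congrArg (rs M h) he
  simp only [rs_smul, rs_rs] at this
  exact this

theorem isGen_of_empty {Y : Scheme.{u}} (L : Y.Modules) (O : Y.Opens) (hO : ∀ y, y ∉ O) :
    IsGen L O 0 := fun V hV => by
  haveI : Subsingleton Γ(Y, V) :=
    subsingleton_bot (Coh.structureModule Y) fun y hy => hO y (hV hy)
  haveI : Subsingleton Γ(L, V) := subsingleton_bot L fun y hy => hO y (hV hy)
  exact ⟨fun a b _ => Subsingleton.elim a b, fun b => ⟨0, Subsingleton.elim _ _⟩⟩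

theorem exists_nhd_gen {Y : Scheme.{u}} (g : Y ⟶ X) [IsClosedImmersion g] (L : Y.Modules)
    (hL : PicF.IsInvertible L) (x : X) :
    ∃ W : X.Opens, x ∈ W ∧ ∃ e, IsGen L (g ⁻¹ᵁ W) e := by
  by_cases hx : x ∈ Set.range g
  · obtain ⟨z, rfl⟩ := hx
    obtain ⟨O, e, hzO, he⟩ := Groth.L18.Frame.exists_frame hL z
    obtain ⟨W, hW, hWe⟩ := g.isClosedEmbedding.isInducing.isOpen_iff.1 O.isOpen
    have hle : g ⁻¹ᵁ (⟨W, hW⟩ : X.Opens) ≤ O := fun y hy => hWe.le hy
    exact ⟨⟨W, hW⟩, hWe.ge hzO, _, IsGen.restrict L he hle⟩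
  · exact ⟨⟨(Set.range g)ᶜ, g.isClosedEmbedding.isClosed_range.isOpen_compl⟩, hx, 0,
      isGen_of_empty L _ fun y hy => hy ⟨y, rfl⟩⟩

theorem exists_nhd_inter (hd : ∀ i k, i ≠ k → DiscreteTopology ↥(Set.range (j i) ∩ Set.range (j k)))
    [∀ i, IsClosedImmersion (j i)] (x : X) :
    ∃ W : X.Opens, x ∈ W ∧ ∀ y ∈ W, ∀ i k, i ≠ k → y ∈ Set.range (j i) → y ∈ Set.range (j k) → y = x := by
  have h : ∀ p : Fin n × Fin n, ∃ W : X.Opens, x ∈ W ∧
      (p.1 ≠ p.2 → ∀ y ∈ W, y ∈ Set.range (j p.1) → y ∈ Set.range (j p.2) → y = x) := by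
    rintro ⟨i, k⟩
    by_cases hik : i = k
    · exact ⟨⊤, trivial, fun h => absurd hik h⟩
    by_cases hx : x ∈ Set.range (j i) ∩ Set.range (j k)
    · obtain ⟨W, hW, he⟩ := isOpen_induced_iff.1
        ((hd i k hik).eq_bot ▸ trivial : IsOpen ({⟨x, hx⟩} : Set ↥(Set.range (j i) ∩ Set.range (j k))))
      refine ⟨⟨W, hW⟩, (Set.ext_iff.1 he ⟨x, hx⟩).2 rfl, fun _ y hy hyi hyk => ?_⟩
      exact congrArg Subtype.val ((Set.ext_iff.1 he ⟨y, hyi, hyk⟩).1 hy)
    · exact ⟨⟨(Set.range (j i) ∩ Set.range (j k))ᶜ,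
        (((j i).isClosedEmbedding.isClosed_range).inter
          ((j k).isClosedEmbedding.isClosed_range)).isOpen_compl⟩, hx,
        fun _ y hy hyi hyk => absurd ⟨hyi, hyk⟩ hy⟩
  choose W hxW hW using h
  refine ⟨⟨⋂ p, (W p : Set X), isOpen_iInter_of_finite fun p => (W p).isOpen⟩,
    Set.mem_iInter.2 hxW, fun y hy i k hik hi hk => ?_⟩
  exact hW (i, k) hik y (Set.mem_iInter.1 hy (i, k)) hi hk

/-- The main gluing statement. -/
theorem exists_glue_components [IsReduced X] [∀ i, IsClosedImmersion (j i)]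
    (hcov : ∀ x : X, ∃ i, x ∈ Set.range (j i))
    (hd : ∀ i k, i ≠ k → DiscreteTopology ↥(Set.range (j i) ∩ Set.range (j k)))
    (L : ∀ i, (Z i).Modules) (hL : ∀ i, PicF.IsInvertible (L i)) :
    ∃ M : X.Modules, PicF.IsInvertible M ∧
      ∀ i, Nonempty ((Scheme.Modules.pullback (j i)).obj M ≅ L i) := by
  classical
  choose W₀ hxW₀ hW₀ using exists_nhd_inter j hd
  choose W₁ hxW₁ e₁ he₁ using fun (x : X) (i : Fin n) => exists_nhd_gen (j i) (L i) (hL i) x
  let N : X → X.Opens := fun x => W₀ x ⊓ ⟨⋂ i, (W₁ x i : Set X),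
    isOpen_iInter_of_finite fun i => (W₁ x i).isOpen⟩
  have hN : ∀ x, x ∈ N x := fun x => ⟨hxW₀ x, Set.mem_iInter.2 (hxW₁ x)⟩
  have hNW : ∀ x i, N x ≤ W₁ x i := fun x i y hy => Set.mem_iInter.1 hy.2 i
  obtain ⟨E, hE⟩ : ∃ E : ∀ x i, Γ(L i, j i ⁻¹ᵁ N x), ∀ x i, IsGen (L i) (j i ⁻¹ᵁ N x) (E x i) :=
    ⟨fun x i => rs (L i) ((j i).preimage_mono (hNW x i)) (e₁ x i), fun x i =>
      (he₁ x i).restrict (L i) _⟩
  have hinj : ∀ {V : X.Opens} (d d' : Γ(X, V)), (∀ i, (j i).app V d = (j i).app V d') → d = d' :=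
    fun {V} d d' h => sub_eq_zero.1 (eq_zero_of_app j hcov V _ fun i => by
      rw [map_sub, h i, sub_self])
  -- the transition functions
  have htrans : ∀ x y, ∃ g : Γ(X, N x ⊓ N y), ∀ i,
      ((j i).app (N x ⊓ N y) g) •
        rs (L i) ((j i).preimage_mono inf_le_left) (E x i) =
          rs (L i) ((j i).preimage_mono inf_le_right) (E y i) := by
    intro x y
    by_cases hxy : x = y
    · subst hxy
      exact ⟨1, fun i => by
        show (j i).app (N x ⊓ N x) 1 • _ = _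
        rw [map_one, one_smul]⟩
    -- pieces lying in a single closed subscheme
    let U : Fin n → X.Opens := fun i => ⟨(⋃ k ∈ {k | k ≠ i}, Set.range (j k))ᶜ,
      ((Set.toFinite _).isClosed_biUnion fun k _ => (j k).isClosedEmbedding.isClosed_range).isOpen_compl⟩
    have hUrange : ∀ i, (U i : Set X) ⊆ Set.range (j i) := fun i z hz => by
      obtain ⟨k, hk⟩ := hcov z
      by_cases hki : k = i
      · exact hki ▸ hk
      · exact absurd (Set.mem_iUnion₂.2 ⟨k, hki, hk⟩) hz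
    have hUcov : ∀ z ∈ N x ⊓ N y, ∃ i, z ∈ U i := fun z hz => by
      obtain ⟨i, hi⟩ := hcov z
      refine ⟨i, fun h => ?_⟩
      obtain ⟨k, hk, hzk⟩ := Set.mem_iUnion₂.1 h
      exact hxy ((hW₀ x z hz.1.1 k i hk hzk hi).symm.trans (hW₀ y z hz.2.1 k i hk hzk hi))
    choose c hc using fun i => (hE x i (j i ⁻¹ᵁ (N x ⊓ N y ⊓ U i))
      ((j i).preimage_mono (inf_le_left.trans inf_le_left))).2
      (rs (L i) ((j i).preimage_mono (inf_le_left.trans inf_le_right)) (E y i))
    choose a ha using fun i => (bijective_app_of_le_range j i (N x ⊓ N y ⊓ U i)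
      (fun z hz => hUrange i hz.2)).2 (c i)
    obtain ⟨g, hg⟩ := exists_glue (Coh.structureModule X) (fun i : ULift.{u} (Fin n) => N x ⊓ N y ⊓ U i.down)
      (N x ⊓ N y) (fun i => inf_le_left) (fun z hz => (hUcov z hz).elim fun i hi => ⟨⟨i⟩, hz, hi⟩)
      (fun i => a i.down) (fun i k => by
        by_cases hik : i = k
        · subst hik; rfl
        · exact (subsingleton_bot (Coh.structureModule X)
            (V := (N x ⊓ N y ⊓ U i.down) ⊓ (N x ⊓ N y ⊓ U k.down)) fun z hz => hz.2.2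
              (Set.mem_iUnion₂.2 ⟨i.down, fun h => hik (ULift.ext _ _ h), hUrange _ hz.1.2⟩)).elim _ _)
    refine ⟨g, fun i => eq_of_locally (L i) _ _ fun w hw => ?_⟩
    obtain ⟨k, hk⟩ := hUcov (j i w) hw
    obtain rfl : k = i := by
      by_contra hne
      exact hk (Set.mem_iUnion₂.2 ⟨i, fun h => hne h.symm, w, rfl⟩)
    refine ⟨j k ⁻¹ᵁ (N x ⊓ N y ⊓ U k), (j k).preimage_mono inf_le_left, ⟨hw, hk⟩, ?_⟩
    have hgk : rO X (inf_le_left : N x ⊓ N y ⊓ U k ≤ N x ⊓ N y) g = a k := hg ⟨k⟩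
    have hn : rO (Z k) ((j k).preimage_mono inf_le_left)
        ((j k).app (N x ⊓ N y) g) = c k := by
      rw [← ha k, ← hgk]
      exact (congr($((j k).naturality (homOfLE (inf_le_left : N x ⊓ N y ⊓ U k ≤ N x ⊓ N y)).op) g)).symm
    rw [rs_smul, rs_rs, rs_rs, hn]
    exact hc k
  choose g hg using htrans
  -- transitions seen on a smaller open of one closed subscheme
  have hgW : ∀ (x y : X) (i : Fin n) (W : (Z i).Opens) (hx : W ≤ j i ⁻¹ᵁ N x) (hy : W ≤ j i ⁻¹ᵁ N y),
      rO (Z i) (le_inf hx hy : W ≤ j i ⁻¹ᵁ (N x ⊓ N y))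
        ((j i).app (N x ⊓ N y) (g x y)) •
          rs (L i) hx (E x i) = rs (L i) hy (E y i) := by
    intro x y i W hx hy
    exact smul_rs_eq ((j i).preimage_mono inf_le_left) ((j i).preimage_mono inf_le_right)
      (le_inf hx hy : W ≤ j i ⁻¹ᵁ (N x ⊓ N y)) (hg x y i)
  have hnat : ∀ (i : Fin n) {V V' : X.Opens} (h : V ≤ V') (b : Γ(X, V')),
      (j i).app V (rO X h b) =
        rO (Z i) ((j i).preimage_mono h) ((j i).app V' b) := fun i V V' h b =>
    congr($((j i).naturality (homOfLE h).op) b)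
  let C : Cocycle X :=
    { ι := X
      N := N
      g := g
      one := fun x => hinj _ _ fun i => by
        refine (hE x i (j i ⁻¹ᵁ (N x ⊓ N x)) ((j i).preimage_mono inf_le_left)).1 ?_
        show _ • _ = ((j i).app (N x ⊓ N x) 1) • _
        rw [map_one, one_smul]
        exact hg x x i
      comp := fun x y z => hinj _ _ fun i => by
        set W : X.Opens := N x ⊓ N y ⊓ N z
        have hx : W ≤ N x := inf_le_left.trans inf_le_left
        have hy : W ≤ N y := inf_le_left.trans inf_le_right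
        have hz : W ≤ N z := inf_le_right
        refine (hE x i (j i ⁻¹ᵁ W) ((j i).preimage_mono hx)).1 ?_
        show ((j i).app W (_ * _)) • _ = ((j i).app W _) • _
        rw [map_mul, hnat, hnat, hnat, mul_comm, mul_smul]
        have h1 := hgW x y i (j i ⁻¹ᵁ W) ((j i).preimage_mono hx) ((j i).preimage_mono hy)
        have h2 := hgW y z i (j i ⁻¹ᵁ W) ((j i).preimage_mono hy) ((j i).preimage_mono hz)
        have h3 := hgW x z i (j i ⁻¹ᵁ W) ((j i).preimage_mono hx) ((j i).preimage_mono hz)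
        exact ((congrArg (_ • ·) h1).trans h2).trans h3.symm }
  refine ⟨glueMod C, isInvertible_glueMod C (fun x => ⟨x, hN x⟩), fun i => ?_⟩
  refine nonempty_iso_of_gens (ι := X) (fun x => j i ⁻¹ᵁ N x)
    (e := fun x => Groth.L18.Frame.pull (j i) (glueMod C) (N x) (gen C x)) (e' := fun x => E x i)
    (fun x => Groth.L18.Frame.IsFrame.pullback (j i) _ (isGen_gen C x)) (fun x => hE x i)
    (fun z => ⟨j i z, hN _⟩) fun x y W hx hy c hc => ?_
  -- the transition of the pulled back generators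
  have h0 : rs ((Scheme.Modules.pullback (j i)).obj (glueMod C))
      ((j i).preimage_mono (inf_le_right : N x ⊓ N y ≤ N y))
      (Groth.L18.Frame.pull (j i) (glueMod C) (N y) (gen C y)) =
      ((j i).app (N x ⊓ N y) (g x y)) •
        rs ((Scheme.Modules.pullback (j i)).obj (glueMod C))
          ((j i).preimage_mono (inf_le_left : N x ⊓ N y ≤ N x))
          (Groth.L18.Frame.pull (j i) (glueMod C) (N x) (gen C x)) := by
    refine (Groth.L18.Frame.pull_rs (j i) _ inf_le_right _).trans ?_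
    refine (congrArg (Groth.L18.Frame.pull (j i) (glueMod C) (N x ⊓ N y)) (gen_trans C x y)).trans ?_
    refine (Groth.L18.Frame.pull_smul (j i) _ _ _).trans ?_
    exact congrArg (_ • ·) (Groth.L18.Frame.pull_rs (j i) _ inf_le_left _).symm
  have h1 := smul_rs_eq ((j i).preimage_mono inf_le_left) ((j i).preimage_mono inf_le_right)
    (le_inf hx hy : W ≤ j i ⁻¹ᵁ (N x ⊓ N y)) h0.symm
  have hcg := (Groth.L18.Frame.IsFrame.pullback (j i) (glueMod C) (isGen_gen C x) W hx).1 (hc.trans h1.symm)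
  rw [hcg]
  exact hgW x y i W hx hy

end Groth.L22.PicGlue
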